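import Groth.Agent.PerfB.ApproxProp
import Groth.Agent.Sga3.H806.SmoothDescend
import Groth.Agent.S0591
import Groth.Agent.Picfga.CurveRelDim
import Groth.Agent.UnramA.SmoothFibreDim

/-!
# Noetherian models of proper schemes smooth of relative dimension `n`

* `unique`: uniqueness of the relative dimension.
* `exists_rank`: a smooth morphism has locally a relative dimension.
* `exists_clopen`: the part of relative dimension `n` of a smooth morphism is open and closed.
* `main`: a proper scheme, smooth of relative dimension `n` over `Spec A` is the base change of such a scheme over a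
  Noetherian ring.
-/

set_option autoImplicit false
universe u
open CategoryTheory CategoryTheory.Limits AlgebraicGeometry Opposite TopologicalSpace

namespace K494.NoethModel

open Groth.Agent Groth.Agent.PerfB.ApproxRing Groth.Agent.PerfB.ApproxMdl Groth.Agent.PerfB.ApproxProp

section Rank

variable {X S : Scheme.{u}}

/-- **Uniqueness of the relative dimension.** -/
theorem unique (f : X ⟶ S) (n m : ℕ) (hn : SmoothOfRelativeDimension n f) (hm : SmoothOfRelativeDimension m f)
    (x : X) : n = m := by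
  obtain ⟨z, hz⟩ : ∃ z : f.fiber (f x), f.fiberι (f x) z = x := by
    have h3 := f.range_fiberι (f x)
    have h4 : x ∈ Set.range (f.fiberι (f x)) := by rw [h3]; rfl
    exact h4
  have hst := smoothOfRelativeDimension_isStableUnderBaseChange.{u} n
  have hst' := smoothOfRelativeDimension_isStableUnderBaseChange.{u} m
  have h1 : SmoothOfRelativeDimension n (f.fiberToSpecResidueField (f x)) :=
    MorphismProperty.of_isPullback (P := @SmoothOfRelativeDimension.{u} n)
      (IsPullback.of_hasPullback f (S.fromSpecResidueField (f x))) hn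
  have h2 : SmoothOfRelativeDimension m (f.fiberToSpecResidueField (f x)) :=
    MorphismProperty.of_isPullback (P := @SmoothOfRelativeDimension.{u} m)
      (IsPullback.of_hasPullback f (S.fromSpecResidueField (f x))) hm
  have e1 := @UnramA.SmoothFibreDim.localDim_eq (S.residueField (f x)) _ n _ _ h1 z
  have e2 := @UnramA.SmoothFibreDim.localDim_eq (S.residueField (f x)) _ m _ _ h2 z
  rw [e1] at e2
  exact_mod_cast e2

/-- Locally, a smooth morphism has a relative dimension. -/
theorem exists_rank (f : X ⟶ S) [Smooth f] (x : X) :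
    ∃ (n : ℕ) (V : X.Opens), x ∈ V ∧ SmoothOfRelativeDimension n (V.ι ≫ f) := by
  obtain ⟨U, hU, V, hV, hx, e, h⟩ := Smooth.exists_isStandardSmooth f x
  obtain ⟨n, hn⟩ := Picfga.CurveRelDim.exists_relativeDimension h
  refine ⟨n, V, hx, ?_⟩
  have h1 : SmoothOfRelativeDimension n (f.resLE U V e) := by
    have : IsAffine U := hU
    have : IsAffine V := hV
    rw [HasRingHomProperty.iff_of_isAffine (P := @SmoothOfRelativeDimension n)]
    have hr : (RingHom.toMorphismProperty
        (RingHom.Locally (RingHom.IsStandardSmoothOfRelativeDimension n))).RespectsIso :=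
      RingHom.toMorphismProperty_respectsIso_iff.mp
        (HasRingHomProperty.isLocal_ringHomProperty (@SmoothOfRelativeDimension n)).respectsIso
    exact (MorphismProperty.arrow_mk_iso_iff (RingHom.toMorphismProperty
      (RingHom.Locally (RingHom.IsStandardSmoothOfRelativeDimension n)))
      (arrowResLEAppIso f U V e)).mpr
        (RingHom.locally_of RingHom.isStandardSmoothOfRelativeDimension_respectsIso _ hn)
  have h2 : V.ι ≫ f = f.resLE U V e ≫ U.ι := (Scheme.Hom.resLE_comp_ι _ _).symm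
  rw [h2]
  exact (inferInstance : SmoothOfRelativeDimension (n + 0) (f.resLE U V e ≫ U.ι))

/-- Restriction to a smaller open. -/
theorem of_le (f : X ⟶ S) (n : ℕ) {U V : X.Opens} (h : U ≤ V) (hV : SmoothOfRelativeDimension n (V.ι ≫ f)) :
    SmoothOfRelativeDimension n (U.ι ≫ f) := by
  have h1 : SmoothOfRelativeDimension (0 + n) (X.homOfLE h ≫ V.ι ≫ f) := inferInstance
  rwa [Scheme.homOfLE_ι_assoc, zero_add] at h1

/-- The points where `f` has relative dimension `n`. -/
def loc (f : X ⟶ S) (n : ℕ) : X.Opens :=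
  ⨆ V : {V : X.Opens // SmoothOfRelativeDimension n (V.ι ≫ f)}, V.1

theorem mem_loc (f : X ⟶ S) (n : ℕ) (x : X) :
    x ∈ loc f n ↔ ∃ V : X.Opens, x ∈ V ∧ SmoothOfRelativeDimension n (V.ι ≫ f) := by
  rw [loc, Opens.mem_iSup]
  exact ⟨fun ⟨V, hx⟩ => ⟨V.1, hx, V.2⟩, fun ⟨V, hx, hV⟩ => ⟨⟨V, hV⟩, hx⟩⟩

theorem smooth_loc (f : X ⟶ S) (n : ℕ) : SmoothOfRelativeDimension n ((loc f n).ι ≫ f) := by
  have h1 : ∀ V : {V : X.Opens // SmoothOfRelativeDimension n (V.ι ≫ f)}, V.1 ≤ loc f n := fun V => le_iSup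
    (fun V : {V : X.Opens // SmoothOfRelativeDimension n (V.ι ≫ f)} => V.1) V
  let W : {V : X.Opens // SmoothOfRelativeDimension n (V.ι ≫ f)} → (loc f n).toScheme.Opens :=
    fun V => (loc f n).ι ⁻¹ᵁ V.1
  have hcov : ⨆ V, W V = ⊤ := by
    rw [eq_top_iff]
    intro w _
    obtain ⟨V, hw⟩ := Opens.mem_iSup.1 w.2
    exact Opens.mem_iSup.2 ⟨V, hw⟩
  rw [IsZariskiLocalAtSource.iff_of_iSup_eq_top (P := @SmoothOfRelativeDimension n) _ hcov]
  intro V
  have hV := V.2
  have h2 : SmoothOfRelativeDimension (0 + n) (((loc f n).ι ∣_ V.1) ≫ V.1.ι ≫ f) := inferInstance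
  rw [zero_add, morphismRestrict_ι_assoc] at h2
  exact h2

/-- The part of relative dimension `n` is closed. -/
theorem isClosed_loc (f : X ⟶ S) [Smooth f] (n : ℕ) : IsClosed (loc f n : Set X) := by
  rw [← isOpen_compl_iff]
  rw [isOpen_iff_forall_mem_open]
  intro x hx
  obtain ⟨m, V, hxV, hV⟩ := exists_rank f x
  refine ⟨V, fun y hy hy' => hx ?_, V.2, hxV⟩
  obtain ⟨W, hyW, hW⟩ := (mem_loc f n y).1 hy'
  have h1 := of_le f n (inf_le_right : V ⊓ W ≤ W) hW
  have h2 := of_le f m (inf_le_left : V ⊓ W ≤ V) hV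
  have h3 := unique _ n m h1 h2 ⟨y, hy, hyW⟩
  exact (mem_loc f n x).2 ⟨V, hxV, h3 ▸ hV⟩

theorem isProper_loc (f : X ⟶ S) [Smooth f] (n : ℕ) : IsClosedImmersion (loc f n).ι := by
  refine IsClosedImmersion.of_isPreimmersion _ ?_
  rw [Scheme.Opens.range_ι]
  exact isClosed_loc f n

end Rank

section Model

variable {A : Type u} [CommRing A]

/-- Passage to the part of relative dimension `n`. -/
theorem of_smooth {X S X₀ S₀ : Scheme.{u}} (f : X ⟶ S) (n : ℕ) (hf : SmoothOfRelativeDimension n f) (f₀ : X₀ ⟶ S₀)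
    (q : X ⟶ X₀) (s : S ⟶ S₀) (H : IsPullback q f f₀ s) (hs : Smooth f₀) (hp : IsProper f₀) :
    ∃ (X₁ : Scheme.{u}) (f₁ : X₁ ⟶ S₀) (q₁ : X ⟶ X₁), IsProper f₁ ∧ SmoothOfRelativeDimension n f₁ ∧
      IsPullback q₁ f f₁ s := by
  have hr : Set.range q ⊆ (loc f₀ n : Set X₀) := by
    rintro _ ⟨x, rfl⟩
    obtain ⟨m, V, hxV, hV⟩ := exists_rank f₀ (q x)
    have h1 : IsPullback (q ∣_ V) ((q ⁻¹ᵁ V).ι ≫ f) (V.ι ≫ f₀) s :=
      ((isPullback_morphismRestrict q V).flip.paste_horiz H.flip).flip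
    have hst := smoothOfRelativeDimension_isStableUnderBaseChange.{u} m
    have h2 : SmoothOfRelativeDimension m ((q ⁻¹ᵁ V).ι ≫ f) :=
      MorphismProperty.of_isPullback (P := @SmoothOfRelativeDimension.{u} m) h1 hV
    have h3 : SmoothOfRelativeDimension (0 + n) ((q ⁻¹ᵁ V).ι ≫ f) := inferInstance
    rw [zero_add] at h3
    have h4 := unique _ n m h3 h2 ⟨x, hxV⟩
    exact (mem_loc f₀ n (q x)).2 ⟨V, hxV, h4 ▸ hV⟩
  have hci := isProper_loc f₀ n
  refine ⟨loc f₀ n, (loc f₀ n).ι ≫ f₀, IsOpenImmersion.lift (loc f₀ n).ι q (by rwa [Scheme.Opens.range_ι]),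
    inferInstance, smooth_loc f₀ n, ?_⟩
  have h5 : IsPullback (𝟙 X) (IsOpenImmersion.lift (loc f₀ n).ι q (by rwa [Scheme.Opens.range_ι])) q (loc f₀ n).ι := by
    refine ⟨⟨?_⟩, ⟨PullbackCone.IsLimit.mk _ (fun c => c.fst) (fun c => Category.comp_id _) (fun c => ?_)
      (fun c m h _ => ?_)⟩⟩
    · rw [Category.id_comp, IsOpenImmersion.lift_fac]
    · rw [← cancel_mono (loc f₀ n).ι, Category.assoc, IsOpenImmersion.lift_fac, c.condition]
    · simpa using h
  have h6 := (h5.paste_horiz H.flip).flip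
  rwa [Category.id_comp] at h6

theorem exists_model {X : Scheme.{u}} (f : X ⟶ Spec (CommRingCat.of A)) [LocallyOfFinitePresentation f]
    [QuasiCompact f] [QuasiSeparated f] :
    ∃ (B : Idx A) (X₀ : Scheme.{u}) (f₀ : X₀ ⟶ Spec (CommRingCat.of B.1)) (g : X ⟶ X₀),
      LocallyOfFinitePresentation f₀ ∧ QuasiCompact f₀ ∧ QuasiSeparated f₀ ∧ IsPullback g f f₀ (sa B) := by
  have i3 : LocallyOfFinitePresentation (Y := (specCone A).pt) f :=
    inferInstanceAs (LocallyOfFinitePresentation f)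
  have i4 : QuasiCompact (Y := (specCone A).pt) f := inferInstanceAs (QuasiCompact f)
  have i5 : QuasiSeparated (Y := (specCone A).pt) f := inferInstanceAs (QuasiSeparated f)
  obtain ⟨i, X₀, f₀, g, h1, h2, h3, h4⟩ := Groth.Agent.S0591.result (specDiag A) (specCone A)
    (specIsLimit A) X f
  exact ⟨i.unop, X₀, f₀, g, h1, h2, h3, h4⟩

/-- **Noetherian models.** -/
theorem main {X : Scheme.{u}} (f : X ⟶ Spec (CommRingCat.of A)) [IsProper f] (n : ℕ)
    [SmoothOfRelativeDimension n f] :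
    ∃ (A₀ : Type u) (_ : CommRing A₀) (_ : IsNoetherianRing A₀) (_ : Algebra A₀ A) (X₀ : Scheme.{u})
      (f₀ : X₀ ⟶ Spec (CommRingCat.of A₀)) (q : X ⟶ X₀), IsProper f₀ ∧ SmoothOfRelativeDimension n f₀ ∧
      IsPullback q f f₀ (Spec.map (CommRingCat.ofHom (algebraMap A₀ A))) := by
  have hsm : Smooth f := SmoothOfRelativeDimension.smooth n f
  obtain ⟨B, X₀, f₀, g, h1, h2, h3, hB⟩ := exists_model f
  -- proper
  obtain ⟨C, hC, hp⟩ := exists_prop (P := @IsProper) Groth.Agent.Smoothlim.LimBase.descendsAffine_isProper hB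
    (by exact ⟨⟨(inferInstance : LocallyOfFiniteType f₀), h2⟩, h3⟩) inferInstance
  let f₁ : pullback f₀ (si hC) ⟶ Spec (CommRingCat.of C.1) := pullback.snd f₀ (si hC)
  have hlf1 : LocallyOfFinitePresentation f₁ := inferInstance
  let g₁ : X ⟶ pullback f₀ (si hC) := pullback.lift g (f ≫ sa C) (by rw [Category.assoc, sa_si]; exact hB.w)
  have hC' : IsPullback g₁ f f₁ (sa C) := by
    refine IsPullback.of_right (t := IsPullback.of_hasPullback f₀ (si hC)) ?_ (pullback.lift_snd _ _ _)
    have e1 : g₁ ≫ pullback.fst f₀ (si hC) = g := pullback.lift_fst _ _ _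
    rw [e1, sa_si]
    exact hB
  -- smooth
  have hz := HasRingHomProperty.instIsZariskiLocalAtTarget (P := @Smooth.{u}) (Q := RingHom.Smooth)
  obtain ⟨E, hE, hs⟩ := exists_prop (P := @Smooth) Groth.Agent.Sga3.H806.SmoothDescend.descendsAffine_smooth hC'
    (by exact ⟨hlf1, inferInstance⟩) hsm
  let f₂ : pullback f₁ (si hE) ⟶ Spec (CommRingCat.of E.1) := pullback.snd f₁ (si hE)
  have hp2 : IsProper f₂ := inferInstance
  let g₂ : X ⟶ pullback f₁ (si hE) := pullback.lift g₁ (f ≫ sa E) (by rw [Category.assoc, sa_si]; exact hC'.w)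
  have hE' : IsPullback g₂ f f₂ (sa E) := by
    refine IsPullback.of_right (t := IsPullback.of_hasPullback f₁ (si hE)) ?_ (pullback.lift_snd _ _ _)
    have e1 : g₂ ≫ pullback.fst f₁ (si hE) = g₁ := pullback.lift_fst _ _ _
    rw [e1, sa_si]
    exact hC'
  obtain ⟨X₁, f₃, q₁, k1, k2, k3⟩ := of_smooth f n inferInstance f₂ g₂ (sa E) hE' hs hp2
  exact ⟨E.1, inferInstance, inferInstance, inferInstance, X₁, f₃, q₁, k1, k2, k3⟩

end Model

end K494.NoethModel
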