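import Mathlib.RingTheory.Kaehler.Basic
import Mathlib.RingTheory.Unramified.Basic
import Mathlib.RingTheory.Etale.Basic
import Mathlib.LinearAlgebra.Matrix.NonsingularInverse
import Mathlib.LinearAlgebra.Dimension.StrongRankCondition
import Mathlib.LinearAlgebra.Dimension.Constructions

/-!
# Change of coordinates: matrices
-/

set_option autoImplicit false

namespace K494.BasisChange

universe u

section Alg

variable {A B B' : Type u} [CommRing A] [CommRing B] [CommRing B'] [Algebra A B] [Algebra A B'] [Algebra B B']
  [IsScalarTower A B B'] {n : ℕ}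

/-- Relations between differentials pass to `B'`. -/
theorem D_algebraMap_eq {ι : Type*} (s : Finset ι) (a x : ι → B) (y : B)
    (h : KaehlerDifferential.D A B y = ∑ i ∈ s, a i • KaehlerDifferential.D A B (x i)) :
    KaehlerDifferential.D A B' (algebraMap B B' y) =
      ∑ i ∈ s, algebraMap B B' (a i) • KaehlerDifferential.D A B' (algebraMap B B' (x i)) := by
  have h1 := congrArg (KaehlerDifferential.map A A B B') h
  rw [KaehlerDifferential.map_D, map_sum] at h1
  rw [h1]
  refine Finset.sum_congr rfl fun i _ => ?_
  rw [map_smul, KaehlerDifferential.map_D, algebraMap_smul]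

variable [Algebra.FormallyUnramified B B']

/-- Generating differentials stay generating. -/
theorem span_map (x : Fin n → B) (hx : ⊤ ≤ Submodule.span B (Set.range fun i => KaehlerDifferential.D A B (x i))) :
    ⊤ ≤ Submodule.span B' (Set.range fun i => KaehlerDifferential.D A B' (algebraMap B B' (x i))) := by
  have h0 : Function.Surjective (KaehlerDifferential.mapBaseChange A B B') := by
    have h1 := KaehlerDifferential.exact_mapBaseChange_map A B B'
    intro z
    exact (h1 z).1 (Subsingleton.elim _ _)
  intro z _
  obtain ⟨w, rfl⟩ := h0 z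
  induction w with
  | zero => rw [map_zero]; exact Submodule.zero_mem _
  | add a b ha hb => rw [map_add]; exact Submodule.add_mem _ (ha trivial) (hb trivial)
  | tmul b w =>
    rw [KaehlerDifferential.mapBaseChange_tmul]
    refine Submodule.smul_mem _ _ ?_
    obtain ⟨c, rfl⟩ := (Submodule.mem_span_range_iff_exists_fun B).1 (hx (Submodule.mem_top (x := w)))
    rw [map_sum]
    refine Submodule.sum_mem _ fun i _ => ?_
    rw [map_smul, KaehlerDifferential.map_D, ← algebraMap_smul B']
    exact Submodule.smul_mem _ _ (Submodule.subset_span ⟨i, rfl⟩)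

end Alg

section Mat

variable {A B : Type u} [CommRing A] [CommRing B] [Algebra A B] {n : ℕ} (b : Module.Basis (Fin n) B (Ω[B⁄A]))

/-- The matrix of the differentials of `x`. -/
noncomputable def mat (x : Fin n → B) : Matrix (Fin n) (Fin n) B :=
  Matrix.of fun i j => b.repr (KaehlerDifferential.D A B (x i)) j

theorem D_eq (x : Fin n → B) (i : Fin n) : KaehlerDifferential.D A B (x i) = ∑ j, mat b x i j • b j :=
  (b.sum_repr _).symm

theorem isUnit_det (x : Fin n → B)
    (hx : ⊤ ≤ Submodule.span B (Set.range fun i => KaehlerDifferential.D A B (x i))) : IsUnit (mat b x).det := by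
  choose P hP using fun j => (Submodule.mem_span_range_iff_exists_fun B).1 (hx (Submodule.mem_top (x := b j)))
  have h1 : Matrix.of P * mat b x = 1 := by
    ext j k
    have h2 := congrArg (fun w => b.repr w k) (hP j)
    simp only [map_sum, map_smul, Finsupp.coe_finsetSum, Finset.sum_apply, Finsupp.smul_apply, smul_eq_mul,
      b.repr_self] at h2
    rw [Matrix.mul_apply, Matrix.one_apply]
    refine h2.trans ?_
    rw [Finsupp.single_apply]
  exact (Matrix.isUnit_iff_isUnit_det _).1 (IsUnit.of_mul_eq_one _ (by rw [mul_eq_one_comm, h1]))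

/-- The differentials at a point. -/
noncomputable def dl {κ : Type*} [Field κ] (ev : B →+* κ) : B →+ (Fin n → κ) where
  toFun r j := ev (b.repr (KaehlerDifferential.D A B r) j)
  map_zero' := by
    funext j
    simp
  map_add' r s := by
    funext j
    simp

theorem li_iff {κ : Type*} [Field κ] (ev : B →+* κ) (x : Fin n → B) :
    LinearIndependent κ (dl b ev ∘ x) ↔ ev (mat b x).det ≠ 0 := by
  have h1 : dl b ev ∘ x = ((mat b x).map ev).row := rfl
  rw [h1, Matrix.linearIndependent_rows_iff_isUnit, Matrix.isUnit_iff_isUnit_det, isUnit_iff_ne_zero,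
    RingHom.map_det]
  rfl

/-- Invertibility of the matrix. -/
theorem span_of_isUnit {B' : Type u} [CommRing B'] [Algebra A B'] [Algebra B B'] [IsScalarTower A B B']
    (z : Fin n → B) (hz : ∀ i, b i = KaehlerDifferential.D A B (z i))
    (hz' : ⊤ ≤ Submodule.span B' (Set.range fun i => KaehlerDifferential.D A B' (algebraMap B B' (z i))))
    (x : Fin n → B) (hd : IsUnit (algebraMap B B' (mat b x).det)) :
    ⊤ ≤ Submodule.span B' (Set.range fun i => KaehlerDifferential.D A B' (algebraMap B B' (x i))) := by
  let N : Matrix (Fin n) (Fin n) B' := (mat b x).map (algebraMap B B')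
  have h1 : ∀ i, KaehlerDifferential.D A B' (algebraMap B B' (x i)) =
      ∑ j, N i j • KaehlerDifferential.D A B' (algebraMap B B' (z j)) := fun i =>
    D_algebraMap_eq Finset.univ (fun j => mat b x i j) z (x i) (by
      rw [D_eq b x i]
      exact Finset.sum_congr rfl fun j _ => by rw [hz])
  have hN : IsUnit N.det := by
    have : N.det = algebraMap B B' (mat b x).det := (RingHom.map_det _ _).symm
    rwa [this]
  refine hz'.trans (Submodule.span_le.2 ?_)
  rintro _ ⟨j, rfl⟩
  have h2 : KaehlerDifferential.D A B' (algebraMap B B' (z j)) =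
      ∑ i, N⁻¹ j i • KaehlerDifferential.D A B' (algebraMap B B' (x i)) := by
    have h3 : N⁻¹ * N = 1 := Matrix.nonsing_inv_mul N hN
    calc KaehlerDifferential.D A B' (algebraMap B B' (z j))
        = ∑ k, (1 : Matrix (Fin n) (Fin n) B') j k • KaehlerDifferential.D A B' (algebraMap B B' (z k)) := by
          rw [Finset.sum_eq_single j]
          · rw [Matrix.one_apply_eq, one_smul]
          · intro k _ hk
            rw [Matrix.one_apply_ne (Ne.symm hk), zero_smul]
          · intro h
            exact absurd (Finset.mem_univ j) h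
      _ = ∑ k, ∑ i, (N⁻¹ j i * N i k) • KaehlerDifferential.D A B' (algebraMap B B' (z k)) := by
          refine Finset.sum_congr rfl fun k _ => ?_
          rw [← h3, Matrix.mul_apply, Finset.sum_smul]
      _ = ∑ i, N⁻¹ j i • KaehlerDifferential.D A B' (algebraMap B B' (x i)) := by
          rw [Finset.sum_comm]
          refine Finset.sum_congr rfl fun i _ => ?_
          rw [h1, Finset.smul_sum]
          exact Finset.sum_congr rfl fun k _ => by rw [mul_smul]
  change KaehlerDifferential.D A B' (algebraMap B B' (z j)) ∈ Submodule.span B' _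
  rw [h2]
  exact Submodule.sum_mem _ fun i _ => Submodule.smul_mem _ _ (Submodule.subset_span ⟨i, rfl⟩)

end Mat

end K494.BasisChange
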