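import Groth.Agent.DelIll.K890.RankBC

/-!
# Descent of the vanishing of the maps induced by the differentials along a faithfully flat base change

`f : X → Spec R`, `K` a complex of abelian sheaves on `X` with `R`-linear differentials, `K'` its base change to
`R'` faithfully flat over `R`.  If `H^{n+1}(X', K'^a) → H^{n+1}(X', K'^{a+1})` is zero, so is
`H^{n+1}(X, K^a) → H^{n+1}(X, K^{a+1})`.
-/

set_option autoImplicit false

universe w w' v u

open CategoryTheory CategoryTheory.Limits AlgebraicGeometry TopologicalSpace Opposite TensorProduct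

namespace K494.BcDesc

open Groth.Agent.Ega3B Groth.Agent.Ega3B.CombRes K890.CechHT K890.TotMod K890.BcTot Groth.Agent.VarietyB.BCAlg
open Groth.Agent.Fga.PicTanSheaf (sec rs ap)
open KLinDR K890.RankBC

attribute [local instance 3000] LocExact.hasSheafify

section Lin

variable {R R' : Type u} [CommRing R] [CommRing R'] [Algebra R R'] [Module.FaithfullyFlat R R']
  {V W V' W' : Type u} [AddCommGroup V] [Module R V] [AddCommGroup W] [Module R W]
  [AddCommGroup V'] [Module R' V'] [AddCommGroup W'] [Module R' W']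

/-- Descent of membership in the image. -/
theorem mem_range (δ : V →ₗ[R] W) (δ' : V' →ₗ[R'] W') (σ : V →ₛₗ[algebraMap R R'] V')
    (τ : W →ₛₗ[algebraMap R R'] W') (hσ : Function.Surjective (bc σ)) (hτ : Function.Injective (bc τ))
    (h : ∀ x, δ' (σ x) = τ (δ x)) (w : W) (hw : τ w ∈ LinearMap.range δ') : w ∈ LinearMap.range δ := by
  obtain ⟨v', hv'⟩ := hw
  obtain ⟨v, rfl⟩ := hσ v'
  have h1 : (δ.lTensor R') v = 1 ⊗ₜ w := by
    apply hτ
    rw [← bc_comm σ τ δ δ' h v, hv', bc_tmul, one_smul]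
  have h2 : ((LinearMap.range δ).mkQ.lTensor R') (1 ⊗ₜ w) = 0 := by
    rw [← h1, ← LinearMap.comp_apply, ← LinearMap.lTensor_comp]
    have h3 : (LinearMap.range δ).mkQ ∘ₗ δ = 0 := by
      ext x
      exact (Submodule.Quotient.mk_eq_zero _).2 ⟨x, rfl⟩
    rw [h3, LinearMap.lTensor_zero, LinearMap.zero_apply]
  rw [LinearMap.lTensor_tmul] at h2
  have h3 := Module.FaithfullyFlat.tensorProduct_mk_injective (A := R) (B := R') (W ⧸ LinearMap.range δ)
    (h2.trans (map_zero (TensorProduct.mk R R' (W ⧸ LinearMap.range δ) 1)).symm)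
  exact (Submodule.Quotient.mk_eq_zero _).1 h3

end Lin

section Col

variable {X : TopCat.{u}} {K : CochainComplex (Sheaf (Opens.grothendieckTopology X) AddCommGrpCat.{u}) ℕ}
  {R : Type u} [CommRing R] (ρ : RAct R K) (D : Data X)

/-- cochains of degree `b` with values in `K^a` -/
def Cm (a b : ℕ) : Type u := ∀ i : D.B b, GS ρ a (D.W b i)

noncomputable instance (a b : ℕ) : AddCommGroup (Cm ρ D a b) :=
  inferInstanceAs (AddCommGroup (∀ i : D.B b, GS ρ a (D.W b i)))

noncomputable instance (a b : ℕ) : Module R (Cm ρ D a b) :=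
  inferInstanceAs (Module R (∀ i : D.B b, GS ρ a (D.W b i)))

/-- the same, as groups -/
noncomputable def toK (a b : ℕ) : Cm ρ D a b ≃+ D.K b (K.X a).obj := AddEquiv.refl _

lemma toK_smul (a b : ℕ) (r : R) (x : Cm ρ D a b) : toK ρ D a b (r • x) = D.Kmap b (ρ.f r a).hom (toK ρ D a b x) := rfl

/-- the Čech differential -/
noncomputable def dC (a b : ℕ) : Cm ρ D a b →ₗ[R] Cm ρ D a (b + 1) where
  toFun x := (toK ρ D a (b + 1)).symm (D.δ b (K.X a).obj (toK ρ D a b x))
  map_add' x y := by rw [map_add, map_add, map_add]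
  map_smul' r x := by
    apply (toK ρ D a (b + 1)).injective
    rw [AddEquiv.apply_symm_apply, toK_smul, D.δ_naturality]
    rfl

end Col

section BC

variable {X X' : TopCat.{u}} {q : X' ⟶ X} {D : Data X}
  {K : CochainComplex (Sheaf (Opens.grothendieckTopology X) AddCommGrpCat.{u}) ℕ}
  {K' : CochainComplex (Sheaf (Opens.grothendieckTopology X') AddCommGrpCat.{u}) ℕ}
  {R R' : Type u} [CommRing R] [CommRing R'] [Algebra R R'] {ρ : RAct R K} {ρ' : RAct R' K'}

/-- the map on cochains -/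
noncomputable def sigC (S : Bc q D ρ ρ') (a b : ℕ) : Cm ρ D a b →ₛₗ[algebraMap R R'] Cm ρ' (comapD q D) a b :=
  piS fun i : D.B b => S.β a b i

lemma bij_sigC (S : Bc q D ρ ρ') (a b : ℕ) : Function.Bijective (bc (sigC S a b)) :=
  bc_piS_bijective _ fun i => S.bij a b i

open Classical in
lemma sigC_dC (S : Bc q D ρ ρ') (a b : ℕ) (x : Cm ρ D a b) :
    dC ρ' (comapD q D) a b (sigC S a b x) = sigC S a (b + 1) (dC ρ D a b x) := by
  funext i
  have e1 : (dC ρ D a b x i : GS ρ a (D.W (b + 1) i)) =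
      ∑ j, if h : D.W (b + 1) i ≤ D.W b j then D.m b i j • resG ρ a h (x j) else 0 :=
    D.δ_apply b _ i
  have e2 : (dC ρ' (comapD q D) a b (sigC S a b x) i : GS ρ' a ((Opens.map q).obj (D.W (b + 1) i))) =
      ∑ j, if h : (Opens.map q).obj (D.W (b + 1) i) ≤ (Opens.map q).obj (D.W b j) then
        D.m b i j • resG ρ' a h (S.β a b j (x j)) else 0 :=
    (comapD q D).δ_apply b _ i
  have e3 : (sigC S a (b + 1) (dC ρ D a b x) i : GS ρ' a ((Opens.map q).obj (D.W (b + 1) i))) =
      S.β a (b + 1) i (dC ρ D a b x i) := rfl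
  refine e2.trans (Eq.trans ?_ e3.symm)
  rw [e1, map_sum]
  refine Finset.sum_congr rfl fun j _ => ?_
  by_cases h : D.W (b + 1) i ≤ D.W b j
  · have h' : (Opens.map q).obj (D.W (b + 1) i) ≤ (Opens.map q).obj (D.W b j) := fun _ hx => h hx
    rw [dif_pos h, dif_pos h', map_zsmul, S.res a b j i h h']
  · have h0 : D.m b i j = 0 := by
      by_contra h0
      exact h (D.le b i j h0)
    rw [dif_neg h, h0, map_zero]
    split_ifs with h1
    · exact zero_smul ℤ (resG ρ' a h1 (S.β a b j (x j)))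
    · rfl

/-- The vanishing of `H^{b+1}(K^a) → H^{b+1}(K^{a+1})` on the cochains of `D`. -/
def Van (D : Data X) (K : CochainComplex (Sheaf (Opens.grothendieckTopology X) AddCommGrpCat.{u}) ℕ) (a b : ℕ) : Prop :=
  ∀ z : D.K (b + 1) (K.X a).obj, D.δ (b + 1) (K.X a).obj z = 0 →
    ∃ y : D.K b (K.X (a + 1)).obj, D.δ b (K.X (a + 1)).obj y = D.Kmap (b + 1) (K.d a (a + 1)).hom z

/-- **Descent.** -/
theorem van_of_bc [Module.FaithfullyFlat R R'] (S : Bc q D ρ ρ') (a b : ℕ) (h : Van (comapD q D) K' a b) :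
    Van D K a b := by
  intro z hz
  let zm : Cm ρ D a (b + 1) := (toK ρ D a (b + 1)).symm z
  let w : Cm ρ D (a + 1) (b + 1) := (toK ρ D (a + 1) (b + 1)).symm (D.Kmap (b + 1) (K.d a (a + 1)).hom z)
  have h1 : dC ρ D a (b + 1) zm = 0 := hz
  have h2 : dC ρ' (comapD q D) a (b + 1) (sigC S a (b + 1) zm) = 0 := by
    rw [sigC_dC, h1, map_zero]
  obtain ⟨y, hy⟩ := h (toK ρ' (comapD q D) a (b + 1) (sigC S a (b + 1) zm)) h2
  have h3 : (sigC S (a + 1) (b + 1) w : Cm ρ' (comapD q D) (a + 1) (b + 1)) =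
      (toK ρ' (comapD q D) (a + 1) (b + 1)).symm ((comapD q D).Kmap (b + 1) (K'.d a (a + 1)).hom
        (toK ρ' (comapD q D) a (b + 1) (sigC S a (b + 1) zm))) := by
    funext i
    exact S.d a (b + 1) i (zm i)
  obtain ⟨v, hv⟩ := mem_range (dC ρ D (a + 1) b) (dC ρ' (comapD q D) (a + 1) b) (sigC S (a + 1) b)
    (sigC S (a + 1) (b + 1)) (bij_sigC S (a + 1) b).2 (bij_sigC S (a + 1) (b + 1)).1
    (fun x => sigC_dC S (a + 1) b x) w ⟨(toK ρ' (comapD q D) (a + 1) b).symm y, by rw [h3, ← hy]; rfl⟩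
  exact ⟨toK ρ D (a + 1) b v, hv⟩

end BC

section Coh

variable {X : TopCat.{u}} {D : Data X} (hD : D.LocGood)
  {K : CochainComplex (Sheaf (Opens.grothendieckTopology X) AddCommGrpCat.{u}) ℕ}
  [HasExt.{w} (Sheaf (Opens.grothendieckTopology X) AddCommGrpCat.{u})]

include hD in
theorem van_iff {a : ℕ} (h1 : D.Acyclic (K.X a)) (h2 : D.Acyclic (K.X (a + 1))) (b : ℕ) :
    Van D K a b ↔ ∀ x : Sheaf.H.{w} (K.X a) (b + 1), Sheaf.H.map (K.d a (a + 1)) (b + 1) x = 0 := by
  constructor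
  · intro h x
    obtain ⟨z, rfl⟩ := Data.θ_surjective hD h1 (b + 1) x
    rw [← Data.θ_naturality]
    exact (Data.θ_eq_zero_iff hD h2 b _).2 (h z.1 z.2)
  · intro h z hz
    have h3 := h (Data.θ (K.X a) hD (b + 1) ⟨z, hz⟩)
    rw [← Data.θ_naturality] at h3
    exact (Data.θ_eq_zero_iff hD h2 b _).1 h3

end Coh

section Sch

variable {A B : Type u} [CommRing A] [CommRing B] [Algebra A B] [Module.FaithfullyFlat A B] {X X' : Scheme.{u}}
  {f : X ⟶ Spec (CommRingCat.of A)} {f' : X' ⟶ Spec (CommRingCat.of B)} {q : X' ⟶ X}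
  {K : CochainComplex (Sheaf (Opens.grothendieckTopology X) AddCommGrpCat.{u}) ℕ}
  {term : ℕ → X.Modules} {iso : ∀ p : ℕ, K.X p ≅ Coh.toAb (term p)}
  {K' : CochainComplex (Sheaf (Opens.grothendieckTopology X') AddCommGrpCat.{u}) ℕ}
  {term' : ℕ → X'.Modules} {iso' : ∀ p : ℕ, K'.X p ≅ Coh.toAb (term' p)}

/-- **Descent of the vanishing.** -/
theorem Hmap_d_eq_zero [CompactSpace X] [X.IsSeparated]
    (sq : IsPullback q f' f (Spec.map (CommRingCat.ofHom (algebraMap A B))))
    (h : TermwiseLinear (Coh.toGlobal f) K term iso) (h' : TermwiseLinear (Coh.toGlobal f') K' term' iso')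
    (hqc : ∀ a, Coh.IsQCoh (term a)) (hqc' : ∀ a, Coh.IsQCoh (term' a)) (hbc : IsBc f f' q iso iso') (a b : ℕ)
    (hv : ∀ x : Sheaf.H (K'.X a) (b + 1), Sheaf.H.map (K'.d a (a + 1)) (b + 1) x = 0)
    (x : Sheaf.H (K.X a) (b + 1)) : Sheaf.H.map (K.d a (a + 1)) (b + 1) x = 0 := by
  obtain ⟨n, U, hU, hW⟩ := exists_datum X
  have hD := CubeData.cech_locGood (X := X.toPresheafedSpace.carrier) U hU
  obtain ⟨S⟩ := nonempty_bc h h' hbc _ hW
  have hq : IsAffineHom q := MorphismProperty.of_isPullback (P := @IsAffineHom) sq.flip inferInstance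
  have hD' := comapD_cech_locGood (X := X.toPresheafedSpace.carrier) (X' := X'.toPresheafedSpace.carrier) q.base U hU
  have hac := acyclic_term iso (CubeData.cech (X := X.toPresheafedSpace.carrier) U) hW hqc
  have hac' := acyclic_term iso' (comapD (X := X.toPresheafedSpace.carrier) (X' := X'.toPresheafedSpace.carrier)
    q.base (CubeData.cech (X := X.toPresheafedSpace.carrier) U)) (fun m b => (hW m b).preimage q) hqc'
  exact (van_iff hD (hac a) (hac (a + 1)) b).1
    (van_of_bc S a b ((van_iff hD' (hac' a) (hac' (a + 1)) b).2 hv)) x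

end Sch

end K494.BcDesc
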