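import Groth.Agent.DelIll.K905.CartCov
import Groth.Agent.DelIll.K905.FinSch

import Groth.Agent.CohtopA.NoethVanish

/-!
# `H^n(X, Ω^{n-1}) → H^n(X, Ω^n)` vanishes in characteristic `p` (perfect base field)

The Cartier operator `C : Ω^n → Ω^n` (`n = dim X`) is an epimorphism of abelian sheaves killing the image of `d`.
`H^n(C)` is surjective and `p^{-1}`-linear on a finite-dimensional vector space, hence injective, and it kills the
image of `H^n(d)`.
-/

set_option autoImplicit false
set_option linter.style.haveILetI false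

universe w v u u'

open CategoryTheory CategoryTheory.Limits AlgebraicGeometry TopologicalSpace Opposite KLinDR

namespace K494.CartVan

section Hom

variable {A : Type u} [Category.{v} A] [Abelian A] (K : CochainComplex A ℕ) (n : ℕ) (hn : K.d n (n + 1) = 0)

/-- The projection onto the cohomology in the top degree. -/
noncomputable def pr : K.X n ⟶ K.homology n := (K.iCyclesIso n (n + 1) (by simp) hn).inv ≫ K.homologyπ n

instance : Epi (pr K n hn) := by
  unfold pr
  infer_instance

theorem d_pr (e : ℕ) : K.d e n ≫ pr K n hn = 0 := by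
  rw [pr, ← K.toCycles_i e n, Category.assoc, HomologicalComplex.iCyclesIso_hom_inv_id_assoc,
    HomologicalComplex.toCycles_comp_homologyπ]

theorem pr_naturality (φ : K ⟶ K) : φ.f n ≫ pr K n hn = pr K n hn ≫ HomologicalComplex.homologyMap φ n := by
  rw [pr, Category.assoc, HomologicalComplex.homologyπ_naturality, ← Category.assoc, ← Category.assoc]
  congr 1
  rw [Iso.eq_inv_comp, ← Category.assoc, Iso.comp_inv_eq]
  exact (HomologicalComplex.cyclesMap_i φ n).symm

end Hom

section Lin

/-- A surjective semilinear endomorphism of a finite-dimensional vector space is injective. -/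
theorem injective_of_surjective {k V : Type*} [Field k] [AddCommGroup V] [Module k V] [Module.Finite k V]
    (τ : k ≃+* k) (ψ : V →+ V) (h : ∀ (a : k) (x : V), ψ (a • x) = τ a • ψ x) (hs : Function.Surjective ψ) :
    Function.Injective ψ := by
  let ψ' : V →ₛₗ[(τ : k →+* k)] V := { ψ with map_smul' := h }
  let N : Submodule k V := LinearMap.ker ψ'
  let q : V ⧸ N →ₛₗ[(τ : k →+* k)] V := N.liftQ ψ' le_rfl
  have hq1 : Function.Injective q := by
    rw [← LinearMap.ker_eq_bot]
    exact Submodule.ker_liftQ_eq_bot N ψ' le_rfl le_rfl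
  have hq2 : Function.Surjective q := fun y => by
    obtain ⟨x, rfl⟩ := hs y
    exact ⟨N.mkQ x, rfl⟩
  have h1 := (K905.ConjSch.semilinear τ (AddEquiv.ofBijective q.toAddMonoidHom ⟨hq1, hq2⟩)
    (fun a x => map_smulₛₗ q a x)).2
  have h2 := N.finrank_quotient_add_finrank
  have h3 : Module.finrank k N = 0 := by omega
  have h4 : N = ⊥ := Submodule.finrank_eq_zero.1 h3
  rw [injective_iff_map_eq_zero]
  intro x hx
  have h5 : x ∈ N := hx
  rw [h4] at h5
  exact (Submodule.mem_bot k).1 h5

end Lin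

section Sh

variable {X : TopCat.{u}}

/-- Epimorphisms induce surjections in the top degree. -/
theorem Hmap_surjective_of_epi {F G : Sheaf (Opens.grothendieckTopology X) AddCommGrpCat.{u}} (g : F ⟶ G) [Epi g]
    (n : ℕ) (h : Subsingleton (Sheaf.H (kernel g) (n + 1))) : Function.Surjective (Sheaf.H.map g n) := by
  have hS : (ShortComplex.mk (kernel.ι g) g (kernel.condition g)).ShortExact :=
    { exact := ShortComplex.exact_of_f_is_kernel _ (kernelIsKernel g)
      mono_f := inferInstanceAs (Mono (kernel.ι g))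
      epi_g := inferInstanceAs (Epi g) }
  intro x
  obtain ⟨y, hy⟩ := Abelian.Ext.covariant_sequence_exact₃ _ hS x rfl (Subsingleton.elim (α := Sheaf.H (kernel g) (n + 1)) _ _)
  exact ⟨y, (Sheaf.H.map_apply g y).trans hy⟩

theorem Hmap_comp_apply {F G H : Sheaf (Opens.grothendieckTopology X) AddCommGrpCat.{u}} (f : F ⟶ G) (g : G ⟶ H)
    (b : ℕ) (x : Sheaf.H F b) : Sheaf.H.map (f ≫ g) b x = Sheaf.H.map g b (Sheaf.H.map f b x) := by
  simp only [Sheaf.H.map_apply, Abelian.Ext.comp_assoc_of_third_deg_zero, Abelian.Ext.mk₀_comp_mk₀]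

theorem Hmap_zero_apply {F G : Sheaf (Opens.grothendieckTopology X) AddCommGrpCat.{u}} (b : ℕ) (x : Sheaf.H F b) :
    Sheaf.H.map (0 : F ⟶ G) b x = 0 := by
  rw [Sheaf.H.map_apply, Abelian.Ext.mk₀_zero, Abelian.Ext.comp_zero]

end Sh

section Main

variable {p : ℕ} [hp : Fact p.Prime] {k : Type u} [Field k] [CharP k p] [PerfectRing k p] {X : Scheme.{u}}
  [X.Over (Spec (CommRingCat.of k))] [IsProper (X ↘ Spec (CommRingCat.of k))]
  [Smooth (X ↘ Spec (CommRingCat.of k))] {Ω' : X.Modules} {δ : OmegaSh.Der (X ↘ Spec (CommRingCat.of k)) Ω'}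
  (D : DeRhamSh.Cx (X ↘ Spec (CommRingCat.of k)) Ω' δ)

variable (p) in
include p in
/-- **Vanishing in characteristic `p`**, perfect base field. -/
theorem Hmap_d_eq_zero (hδ : OmegaSh.IsUniversal δ) (n : ℕ) (hdim : topologicalKrullDim X ≤ n) (e : ℕ)
    (x : Sheaf.H (D.K.X e) n) : Sheaf.H.map (D.K.d e n) n x = 0 := by
  have hcov := fun U x hx => K905.CartCov.exists_isC p hδ U x hx
  have h := K905.FinSch.termwiseLinear (X ↘ Spec (CommRingCat.of k)) hδ D
  have hz : IsZero (D.K.X (n + 1)) := IsZero.of_iso (Functor.map_isZero (SheafOfModules.toSheaf X.ringCatSheaf)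
    (K905.FinSch.isZero_term _ hδ D n hdim (n + 1) (Nat.lt_succ_self n))) (D.iso (n + 1))
  have hn : D.K.d n (n + 1) = 0 := hz.eq_of_tgt _ _
  let C : D.K.X n ⟶ Coh.toAb (D.term n) := pr D.K n hn ≫ (K905.CartSh.iso D hcov n).inv
  have hC : Epi C := inferInstance
  have : IsNoetherian X := K853.Terms.isNoetherian_of_field (X ↘ Spec (CommRingCat.of k))
  have hsur : Function.Surjective (Sheaf.H.map C n) := by
    refine Hmap_surjective_of_epi (X := X.toPresheafedSpace.carrier) C n ?_
    exact Groth.Agent.CohtopA.NoethVanish.subsingleton_H_of_krullDim (X := X.toPresheafedSpace.carrier) n hdim _ (n + 1)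
      (Nat.lt_succ_self n)
  let V := Coh.HH X (D.term n) n
  have hfin : Module.Finite k V := K905.FinSch.finite_HH hδ D n n
  let ψ : V →+ V := (Sheaf.H.map C n).comp (Sheaf.H.map (D.iso n).inv n)
  have hψs : Function.Surjective ψ := by
    refine hsur.comp ?_
    intro y
    refine ⟨Sheaf.H.map (D.iso n).hom n y, ?_⟩
    rw [← Hmap_comp_apply, (D.iso n).hom_inv_id, Sheaf.H.map_id_apply]
  have hC2 : ∀ a : k, Coh.smulAb (D.term n) (Coh.toGlobal (X ↘ Spec (CommRingCat.of k)) (a ^ p)) ≫ (D.iso n).inv ≫ C =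
      ((D.iso n).inv ≫ C) ≫ Coh.smulAb (D.term n) (Coh.toGlobal (X ↘ Spec (CommRingCat.of k)) a) := by
    intro a
    have e1 := K905.CartSh.smul_iso D hcov h n a
    have e2 := pr_naturality D.K n hn (scalarN h (a ^ p))
    rw [scalarN_f] at e2
    have e3 : Coh.smulAb (D.term n) (Coh.toGlobal (X ↘ Spec (CommRingCat.of k)) (a ^ p)) ≫ (D.iso n).inv =
        (D.iso n).inv ≫ scalarEnd (Coh.toGlobal (X ↘ Spec (CommRingCat.of k))) D.term D.iso (a ^ p) n := by
      simp only [scalarEnd, Iso.inv_hom_id_assoc]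
    have e4 : HomologicalComplex.homologyMap (scalarN h (a ^ p)) n ≫ (K905.CartSh.iso D hcov n).inv =
        (K905.CartSh.iso D hcov n).inv ≫ Coh.smulAb (D.term n) (Coh.toGlobal (X ↘ Spec (CommRingCat.of k)) a) := by
      rw [Iso.comp_inv_eq, Category.assoc, e1, Iso.inv_hom_id_assoc]
    rw [← Category.assoc, e3, Category.assoc, Category.assoc]
    congr 1
    change _ ≫ pr D.K n hn ≫ (K905.CartSh.iso D hcov n).inv = (pr D.K n hn ≫ (K905.CartSh.iso D hcov n).inv) ≫ _
    rw [← Category.assoc, e2, Category.assoc, Category.assoc, e4]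
  have hinj : Function.Injective ψ := by
    refine injective_of_surjective (frobeniusEquiv k p).symm ψ (fun a y => ?_) hψs
    obtain ⟨b, rfl⟩ := (frobeniusEquiv k p).surjective a
    rw [RingEquiv.symm_apply_apply]
    change Sheaf.H.map C n (Sheaf.H.map (D.iso n).inv n
      (Sheaf.H.map (Coh.smulAb (D.term n) (Coh.toGlobal (X ↘ Spec (CommRingCat.of k)) (b ^ p))) n y)) =
      Sheaf.H.map (Coh.smulAb (D.term n) (Coh.toGlobal (X ↘ Spec (CommRingCat.of k)) b)) n
        (Sheaf.H.map C n (Sheaf.H.map (D.iso n).inv n y))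
    rw [← Hmap_comp_apply, ← Hmap_comp_apply, ← Hmap_comp_apply, ← Hmap_comp_apply, hC2, Category.assoc]
  have h0 : D.K.d e n ≫ C = 0 := by
    change D.K.d e n ≫ pr D.K n hn ≫ _ = 0
    rw [← Category.assoc, d_pr, zero_comp]
  have h1 : Sheaf.H.map C n (Sheaf.H.map (D.K.d e n) n x) = 0 := by
    rw [← Hmap_comp_apply, h0, Hmap_zero_apply]
  have h2 : Sheaf.H.map (D.iso n).hom n (Sheaf.H.map (D.K.d e n) n x) = 0 := by
    apply hinj
    rw [map_zero]
    change Sheaf.H.map C n (Sheaf.H.map (D.iso n).inv n (Sheaf.H.map (D.iso n).hom n _)) = 0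
    rw [← Hmap_comp_apply (D.iso n).hom, (D.iso n).hom_inv_id, Sheaf.H.map_id_apply, h1]
  have h3 := congrArg (Sheaf.H.map (D.iso n).inv n) h2
  rwa [← Hmap_comp_apply, (D.iso n).hom_inv_id, Sheaf.H.map_id_apply, map_zero] at h3

end Main

end K494.CartVan
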