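import Groth.Agent.DeRhamSh.K494.DegZero
import Groth.Agent.DeRhamSh.K494.CartVan
import Groth.Agent.DeRhamSh.K494.BcDesc
import Groth.Agent.DelIll.K890.NoDiv
import Groth.Agent.DelIll.K890.LogFinal
import Groth.Agent.Lefpen.H716.CIGeom

/-!
# `H^n(X, Ω^{n-1}) → H^n(X, Ω^n)` vanishes for `X` smooth and proper of dimension `n` over a field
-/

set_option autoImplicit false

universe u

open CategoryTheory CategoryTheory.Limits AlgebraicGeometry TopologicalSpace Opposite KLinDR

namespace K494.DTop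

/-- In characteristic zero all the maps `H^b(Ω^i) → H^b(Ω^{i+1})` vanish. -/
theorem charZero {k : Type u} [Field k] [CharZero k] {X : Scheme.{u}} [X.Over (Spec (CommRingCat.of k))]
    [IsProper (X ↘ Spec (CommRingCat.of k))] [Smooth (X ↘ Spec (CommRingCat.of k))] {Ω' : X.Modules}
    {δ : OmegaSh.Der (X ↘ Spec (CommRingCat.of k)) Ω'} (hδ : OmegaSh.IsUniversal δ)
    (D : DeRhamSh.Cx (X ↘ Spec (CommRingCat.of k)) Ω' δ) (i b : ℕ) (x : Sheaf.H (D.K.X i) b) :
    Sheaf.H.map (D.K.d i (i + 1)) b x = 0 := by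
  let _ : HasDerivedCategory.{u + 1} (Sheaf (Opens.grothendieckTopology X) AddCommGrpCat.{u}) :=
    HasDerivedCategory.standard _
  have hdeg := K890.LogFinal.hyperDegenerates K890.NoDiv.degP_zero
    (K904.LogCxT.isNCD_empty _ (Fin.elim0 : Fin 0 → X.IdealSheafData)) hδ
    (K904.LogCxT.ofCx D (Fin.elim0 : Fin 0 → X.IdealSheafData))
  exact K494.DegZero.Hmap_d_eq_zero (isTerminalTop : IsTerminal (⊤ : X.Opens)) hdeg i b x

/-- The same for an explicit structure morphism. -/
theorem charZeroF {k : Type u} [Field k] [CharZero k] {X : Scheme.{u}} (f : X ⟶ Spec (CommRingCat.of k))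
    (hp : IsProper f) (hs : Smooth f) {Ω' : X.Modules} {δ : OmegaSh.Der f Ω'} (hδ : OmegaSh.IsUniversal δ)
    (D : DeRhamSh.Cx f Ω' δ) (i b : ℕ) (x : Sheaf.H (D.K.X i) b) : Sheaf.H.map (D.K.d i (i + 1)) b x = 0 := by
  let _ : X.Over (Spec (CommRingCat.of k)) := ⟨f⟩
  have hp2 : IsProper (X ↘ Spec (CommRingCat.of k)) := hp
  have hs2 : Smooth (X ↘ Spec (CommRingCat.of k)) := hs
  exact charZero (k := k) (X := X) hδ D i b x

/-- `CartVan` for an explicit structure morphism. -/
theorem cartF {k : Type u} [Field k] (p : ℕ) [Fact p.Prime] [CharP k p] [PerfectRing k p] {X : Scheme.{u}}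
    (f : X ⟶ Spec (CommRingCat.of k)) (hp : IsProper f) (hs : Smooth f) {Ω' : X.Modules} {δ : OmegaSh.Der f Ω'}
    (hδ : OmegaSh.IsUniversal δ) (D : DeRhamSh.Cx f Ω' δ) (n : ℕ) (hdim : topologicalKrullDim X ≤ n) (e : ℕ)
    (x : Sheaf.H (D.K.X e) n) : Sheaf.H.map (D.K.d e n) n x = 0 := by
  let _ : X.Over (Spec (CommRingCat.of k)) := ⟨f⟩
  have hp2 : IsProper (X ↘ Spec (CommRingCat.of k)) := hp
  have hs2 : Smooth (X ↘ Spec (CommRingCat.of k)) := hs
  exact K494.CartVan.Hmap_d_eq_zero (k := k) (X := X) p D hδ n hdim e x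

theorem isQCoh_term {k : Type u} [CommRing k] {X : Scheme.{u}} {f : X ⟶ Spec (CommRingCat.of k)} [Smooth f]
    {Ω' : X.Modules} {δ : OmegaSh.Der f Ω'} (hδ : OmegaSh.IsUniversal δ) (D : DeRhamSh.Cx f Ω' δ) (a : ℕ) :
    Coh.IsQCoh (D.term a) :=
  K904.LogCxM.isQCoh_term (K922.Univ.affUniv hδ) (K904.LogCxT.isNCD_empty f (Fin.elim0 : Fin 0 → X.IdealSheafData))
    (K904.LogCxT.ofCx D (Fin.elim0 : Fin 0 → X.IdealSheafData)) a

/-- Characteristic `p`. -/
theorem charP {k : Type u} [Field k] (p : ℕ) [Fact p.Prime] [CharP k p] {X : Scheme.{u}}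
    (f : X ⟶ Spec (CommRingCat.of k)) [IsProper f] (e : ℕ) [SmoothOfRelativeDimension (e + 1) f]
    {Ω' : X.Modules} {δ : OmegaSh.Der f Ω'} (hδ : OmegaSh.IsUniversal δ) (D : DeRhamSh.Cx f Ω' δ)
    (x : Sheaf.H (D.K.X e) (e + 1)) : Sheaf.H.map (D.K.d e (e + 1)) (e + 1) x = 0 := by
  let κ := AlgebraicClosure k
  let φ : Spec (CommRingCat.of κ) ⟶ Spec (CommRingCat.of k) := Spec.map (CommRingCat.ofHom (algebraMap k κ))
  let X' := pullback f φ
  let q : X' ⟶ X := pullback.fst f φ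
  let f' : X' ⟶ Spec (CommRingCat.of κ) := pullback.snd f φ
  have sq : IsPullback q f' f φ := IsPullback.of_hasPullback f φ
  have hs : Smooth f := SmoothOfRelativeDimension.smooth (e + 1) f
  have hp' : IsProper f' := MorphismProperty.of_isPullback sq inferInstance
  have hst : MorphismProperty.IsStableUnderBaseChange (@SmoothOfRelativeDimension (e + 1)) :=
    smoothOfRelativeDimension_isStableUnderBaseChange (e + 1)
  have hs1 : SmoothOfRelativeDimension (e + 1) f' :=
    MorphismProperty.of_isPullback (P := @SmoothOfRelativeDimension (e + 1)) sq inferInstance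
  have hs2 : Smooth f' := SmoothOfRelativeDimension.smooth (e + 1) f'
  have hchar : CharP κ p := charP_of_injective_algebraMap (algebraMap k κ).injective p
  have hperf : PerfectRing κ p := inferInstance
  have hd' : OmegaSh.IsUniversal (OmegaSh.dOmega f') := Groth.Agent.S5005.result f'
  obtain ⟨D'⟩ := K904.LogCxT.nonempty_cx_univ hd'
  have h := K904.LogCxT.termwiseLinear_univ hδ D
  have h' := K904.LogCxT.termwiseLinear_univ hd' D'
  have hsep : X.IsSeparated := (HasAffineProperty.iff_of_isAffine (P := @IsSeparated) (f := f)).mp inferInstance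
  have hcpt : CompactSpace X := QuasiCompact.compactSpace_of_compactSpace f
  have hdim : topologicalKrullDim X' ≤ (e + 1 : ℕ) :=
    Groth.Agent.Lefpen.H716.CIGeom.topologicalKrullDim_le_of_smooth (e + 1) f'
  exact K494.BcDesc.Hmap_d_eq_zero sq h h' (isQCoh_term hδ D) (isQCoh_term hd' D')
    (K904.LogCxT.exists_beta_univ sq hδ hd' D D') e e
    (fun y => cartF p f' hp' hs2 hd' D' (e + 1) hdim e y) x

/-- **Any field.** -/
theorem main {k : Type u} [Field k] {X : Scheme.{u}}
    (f : X ⟶ Spec (CommRingCat.of k)) [IsProper f] (e : ℕ) [SmoothOfRelativeDimension (e + 1) f]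
    {Ω' : X.Modules} {δ : OmegaSh.Der f Ω'} (hδ : OmegaSh.IsUniversal δ) (D : DeRhamSh.Cx f Ω' δ)
    (x : Sheaf.H (D.K.X e) (e + 1)) : Sheaf.H.map (D.K.d e (e + 1)) (e + 1) x = 0 := by
  obtain ⟨p, hp⟩ := CharP.exists k
  rcases CharP.char_is_prime_or_zero k p with h | h
  · have : Fact p.Prime := ⟨h⟩
    exact charP p f e hδ D x
  · subst h
    have : CharZero k := CharP.charP_to_charZero k
    exact charZeroF f inferInstance (SmoothOfRelativeDimension.smooth (e + 1) f) hδ D e (e + 1) x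

/-- The form of the milestone. -/
theorem result {k : Type u} [Field k] {X : Scheme.{u}}
    (f : X ⟶ Spec (CommRingCat.of k)) [IsProper f] (e : ℕ) [SmoothOfRelativeDimension (e + 1) f]
    {Ω' : X.Modules} {δ : OmegaSh.Der f Ω'} (hδ : OmegaSh.IsUniversal δ) (D : DeRhamSh.Cx f Ω' δ)
    (x : Coh.HH X (D.term e) (e + 1)) :
    Sheaf.H.map ((D.iso e).inv ≫ D.K.d e (e + 1) ≫ (D.iso (e + 1)).hom) (e + 1) x = 0 := by
  rw [K494.CartVan.Hmap_comp_apply, K494.CartVan.Hmap_comp_apply, main f e hδ D, map_zero]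

end K494.DTop
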