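import Groth.Agent.LogNCD.K913.E1Sheaf

/-!
# `E_1`-degeneration kills the maps induced by the differentials

`K` a complex of abelian sheaves (in degrees `≥ 0`) on a site with terminal object `U`, whose stupid spectral sequence
degenerates at `E_1`.  Then `H^b(K^i) → H^b(K^{i+1})` is zero.
-/

set_option autoImplicit false

universe w v u

open CategoryTheory CategoryTheory.Limits Opposite E1Deg

namespace K494.DegZero

section Gen

variable {C : Type u} [Category.{v} C] [Preadditive C] [HasZeroObject C] (K : CochainComplex C ℤ) (i : ℤ)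

/-- The composite `σ_{≥ i} K → K^i[-i] → K^{i+1}[-i]`. -/
noncomputable def cmp : sigmaGE K i ⟶ (HomologicalComplex.single C (ComplexShape.up ℤ) i).obj (K.X (i + 1)) :=
  sigmaGEπ K i ≫ (HomologicalComplex.single C (ComplexShape.up ℤ) i).map (K.d i (i + 1))

/-- The components of the homotopy. -/
noncomputable def hh (a b : ℤ) (_ : (ComplexShape.up ℤ).Rel b a) :
    (sigmaGE K i).X a ⟶ ((HomologicalComplex.single C (ComplexShape.up ℤ) i).obj (K.X (i + 1))).X b :=
  if h : b = i ∧ a = i + 1 then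
    (sigmaGEι K i).f a ≫ eqToHom (by rw [h.2]) ≫
      (HomologicalComplex.singleObjXIsoOfEq (ComplexShape.up ℤ) i (K.X (i + 1)) b h.1).inv
  else 0

lemma hh_self (r : (ComplexShape.up ℤ).Rel i (i + 1)) : hh K i (i + 1) i r = (sigmaGEι K i).f (i + 1) ≫
    (HomologicalComplex.singleObjXSelf (ComplexShape.up ℤ) i (K.X (i + 1))).inv := by
  rw [hh, dif_pos ⟨rfl, rfl⟩, eqToHom_refl, Category.id_comp]
  rfl

/-- The composite is null-homotopic. -/
theorem cmp_eq : cmp K i = Homotopy.nullHomotopicMap' (hh K i) := by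
  refine HomologicalComplex.to_single_hom_ext ?_
  have r10 : (ComplexShape.up ℤ).Rel i (i + 1) := rfl
  have r21 : (ComplexShape.up ℤ).Rel (i - 1) i := by change i - 1 + 1 = i; omega
  rw [Homotopy.nullHomotopicMap'_f r21 r10, hh_self, cmp, HomologicalComplex.comp_f, sigmaGEπ_f,
    HomologicalComplex.single_map_f_self]
  have h0 : ((HomologicalComplex.single C (ComplexShape.up ℤ) i).obj (K.X (i + 1))).d (i - 1) i = 0 := by simp
  rw [h0, comp_zero, add_zero, ← Category.assoc ((sigmaGE K i).d i (i + 1)), ← (sigmaGEι K i).comm i (i + 1),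
    sigmaGEι_f_eq K i (emb_f_zero i)]
  simp only [Category.assoc, Iso.inv_hom_id_assoc]

end Gen

section HTmap

variable {A : Type u} [Category.{v} A] [Abelian A] [HasDerivedCategory.{w} A] (T : A) (K : CochainComplex A ℤ)

theorem HTmap_cmp (i n : ℤ) (x : HT T (sigmaGE K i) n) : HTmap T (cmp K i) n x = 0 := by
  have h1 : DerivedCategory.Q.map (cmp K i) = 0 := by
    rw [cmp_eq, DerivedCategory.Q_map_eq_of_homotopy A (Homotopy.nullHomotopy' (hh K i)), Functor.map_zero]
  rw [HTmap_apply, h1, Functor.map_zero, comp_zero]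

theorem HTmap_d_eq_zero (i n : ℤ) (hdeg : DegeneratesAt T K n i)
    (x : HT T ((HomologicalComplex.single A (ComplexShape.up ℤ) i).obj (K.X i)) n) :
    HTmap T ((HomologicalComplex.single A (ComplexShape.up ℤ) i).map (K.d i (i + 1))) n x = 0 := by
  obtain ⟨y, rfl⟩ := hdeg.2 x
  have h1 := HTmap_cmp T K i n y
  rwa [cmp, HTmap_comp] at h1

end HTmap

section Sh

open K913.E1Sheaf

variable {C : Type u} [SmallCategory C] {J : GrothendieckTopology C}
  [HasDerivedCategory.{w} (Sheaf J AddCommGrpCat.{u})] {U : C} (hU : IsTerminal U)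
  {K : CochainComplex (Sheaf J AddCommGrpCat.{u}) ℕ}

include hU in
/-- **`E_1`-degeneration kills the differentials.** -/
theorem Hmap_d_eq_zero (hdeg : HyperDegenerates (ext K) U) (i b : ℕ) (x : Sheaf.H (K.X i) b) :
    Sheaf.H.map (K.d i (i + 1)) b x = 0 := by
  obtain ⟨x, rfl⟩ := (bijective_Hmap_iso (eX K i) b).2 x
  obtain ⟨x, rfl⟩ := (eq hU ((ext K).X (i : ℤ)) i ((i : ℤ) + b) b rfl).surjective x
  have h1 := HTmap_d_eq_zero (CohCx.freeSheaf J U) (ext K) i ((i : ℤ) + b) (hdeg _ _) x
  have h2 := eq_map hU ((ext K).d (i : ℤ) ((i : ℤ) + 1)) i ((i : ℤ) + b) b rfl x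
  rw [h1, map_zero] at h2
  have h3 : (ext K).d (i : ℤ) ((i : ℤ) + 1) = (eX K i).hom ≫ K.d i (i + 1) ≫ (eX K (i + 1)).inv :=
    K.extend_d_eq ComplexShape.embeddingUpNat (ComplexShape.embeddingUpNat_f i) (ComplexShape.embeddingUpNat_f (i + 1))
  rw [h3, Hmap_comp_apply, Hmap_comp_apply] at h2
  apply (bijective_Hmap_iso (eX K (i + 1)).symm b).1
  rw [map_zero]
  exact h2.symm

end Sh

end K494.DegZero
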