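import Mathlib.RingTheory.Kaehler.Basic
import Mathlib.RingTheory.Nakayama
import Mathlib.Tactic.LinearCombination

/-!
# The ideal of the diagonal and coordinates

`B` an `A`-algebra, `I` the kernel of `B ⊗[A] B → B`, `t x = x ⊗ 1 - 1 ⊗ x`.  If the `D (x i)` generate `Ω[B/A]`,
the `t (x i)` generate `I` near the diagonal (`exists_gen`); change of one coordinate (`exists_change`).
-/

set_option autoImplicit false

open TensorProduct

namespace K494.DiagAlg

variable {A B : Type*} [CommRing A] [CommRing B] [Algebra A B]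

variable (A) in
/-- `x ⊗ 1 - 1 ⊗ x` -/
noncomputable abbrev t (x : B) : B ⊗[A] B := x ⊗ₜ[A] 1 - 1 ⊗ₜ[A] x

variable (A B) in
/-- the ideal of the diagonal -/
noncomputable abbrev I : Ideal (B ⊗[A] B) := KaehlerDifferential.ideal A B

theorem t_mem (x : B) : t A x ∈ I A B := by
  have h := KaehlerDifferential.one_smul_sub_smul_one_mem_ideal A x
  rw [← neg_mem_iff, neg_sub]
  exact h

/-- `t x` as an element of the ideal -/
noncomputable def T (x : B) : I A B := ⟨t A x, t_mem x⟩

theorem fromIdeal_T (x : B) : KaehlerDifferential.fromIdeal A B (T x) = -KaehlerDifferential.D A B x := by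
  have h : KaehlerDifferential.D A B x = KaehlerDifferential.fromIdeal A B
      ⟨1 ⊗ₜ x - x ⊗ₜ 1, KaehlerDifferential.one_smul_sub_smul_one_mem_ideal A x⟩ := rfl
  rw [h, ← map_neg]
  congr 1
  apply Subtype.ext
  exact (neg_sub _ _).symm

theorem fromIdeal_smul_T (a x : B) : KaehlerDifferential.fromIdeal A B ((a ⊗ₜ[A] (1 : B)) • T x) =
    -(a • KaehlerDifferential.D A B x) := by
  rw [map_smul, fromIdeal_T, smul_neg]
  congr 1
  exact algebraMap_smul (B ⊗[A] B) a (KaehlerDifferential.D A B x)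

/-- A relation between differentials, as a relation modulo `I ^ 2`. -/
theorem sub_sum_mem {ι : Type*} (s : Finset ι) (x a : ι → B) (y : B)
    (h : KaehlerDifferential.D A B y = ∑ k ∈ s, a k • KaehlerDifferential.D A B (x k)) :
    t A y - ∑ k ∈ s, (a k ⊗ₜ[A] (1 : B)) * t A (x k) ∈ I A B ^ 2 := by
  have h1 : KaehlerDifferential.fromIdeal A B (T y - ∑ k ∈ s, (a k ⊗ₜ[A] (1 : B)) • T (x k)) = 0 := by
    rw [map_sub, map_sum, fromIdeal_T]
    simp only [fromIdeal_smul_T]
    rw [h, Finset.sum_neg_distrib, sub_neg_eq_add, neg_add_cancel]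
  have h2 := (Ideal.toCotangent_eq_zero (I A B) _).1 h1
  have h3 : ((T y - ∑ k ∈ s, (a k ⊗ₜ[A] (1 : B)) • T (x k) : I A B) : B ⊗[A] B) =
      t A y - ∑ k ∈ s, (a k ⊗ₜ[A] (1 : B)) * t A (x k) := by
    rw [Submodule.coe_sub, Submodule.coe_sum]
    rfl
  rwa [h3] at h2

theorem le_sup {n : ℕ} (x : Fin n → B)
    (hx : ⊤ ≤ Submodule.span B (Set.range fun i => KaehlerDifferential.D A B (x i))) :
    I A B ≤ Ideal.span (Set.range fun i => t A (x i)) ⊔ I A B • I A B := by
  refine (KaehlerDifferential.span_range_eq_ideal A B).ge.trans (Ideal.span_le.2 ?_)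
  rintro _ ⟨y, rfl⟩
  obtain ⟨a, ha⟩ := (Submodule.mem_span_range_iff_exists_fun B).1 (hx (Submodule.mem_top (x := KaehlerDifferential.D A B y)))
  have h1 := sub_sum_mem Finset.univ x a y ha.symm
  have h2 : ∑ k, (a k ⊗ₜ[A] (1 : B)) * t A (x k) ∈ Ideal.span (Set.range fun i => t A (x i)) :=
    Ideal.sum_mem _ fun k _ => Ideal.mul_mem_left _ _ (Ideal.subset_span ⟨k, rfl⟩)
  rw [pow_two] at h1
  have h3 : (1 : B) ⊗ₜ[A] y - y ⊗ₜ[A] (1 : B) = -(∑ k, (a k ⊗ₜ[A] (1 : B)) * t A (x k)) +
      -(t A y - ∑ k, (a k ⊗ₜ[A] (1 : B)) * t A (x k)) := by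
    rw [← neg_add, add_sub_cancel, t, neg_sub]
  change (1 : B) ⊗ₜ[A] y - y ⊗ₜ[A] (1 : B) ∈ _
  rw [h3]
  exact Submodule.add_mem_sup (neg_mem h2) (neg_mem h1)

/-- **The ideal of the diagonal near the diagonal.** -/
theorem exists_gen [Algebra.FiniteType A B] {n : ℕ} (x : Fin n → B)
    (hx : ⊤ ≤ Submodule.span B (Set.range fun i => KaehlerDifferential.D A B (x i))) :
    ∃ G : B ⊗[A] B, G - 1 ∈ I A B ∧ ∀ z ∈ I A B, G * z ∈ Ideal.span (Set.range fun i => t A (x i)) := by
  obtain ⟨r, hr, hr'⟩ := Submodule.exists_sub_one_mem_and_smul_le_of_fg_of_le_sup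
    (KaehlerDifferential.ideal_fg A B) le_rfl (le_sup x hx)
  exact ⟨r, hr, fun z hz => hr' (Submodule.smul_mem_pointwise_smul z r _ hz)⟩

/-- **Change of one coordinate** near the diagonal. -/
theorem exists_change_sum [Algebra.FiniteType A B] {n : ℕ} (x : Fin n → B)
    (hx : ⊤ ≤ Submodule.span B (Set.range fun i => KaehlerDifferential.D A B (x i))) (i : Fin n) (y : B)
    (hy : ⊤ ≤ Submodule.span B (Set.range fun k => KaehlerDifferential.D A B (Function.update x i y k))) (c : B)
    (a : Fin n → B) (hc : KaehlerDifferential.D A B y - c • KaehlerDifferential.D A B (x i) =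
      ∑ k ∈ Finset.univ.erase i, a k • KaehlerDifferential.D A B (x k)) :
    ∃ G : B ⊗[A] B, G - 1 ∈ I A B ∧ ∃ (α : Fin n → B ⊗[A] B) (β : B ⊗[A] B),
      G * (t A y - (c ⊗ₜ[A] (1 : B)) * t A (x i)) =
        ∑ k ∈ Finset.univ.erase i, α k * t A (x k) + β * (t A (x i) * t A y) := by
  classical
  obtain ⟨G₁, h1, h1'⟩ := exists_gen x hx
  obtain ⟨G₂, h2, h2'⟩ := exists_gen _ hy
  have key : ∀ w ∈ I A B * I A B, ∃ (α : Fin n → B ⊗[A] B) (β : B ⊗[A] B),
      (G₁ * G₂) * w = ∑ k ∈ Finset.univ.erase i, α k * t A (x k) + β * (t A (x i) * t A y) := by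
    intro w hw
    refine Submodule.mul_induction_on hw (fun u hu v hv => ?_) (fun u v hu hv => ?_)
    · obtain ⟨p, hp⟩ := (Submodule.mem_span_range_iff_exists_fun _).1 (h1' u hu)
      obtain ⟨q, hq⟩ := (Submodule.mem_span_range_iff_exists_fun _).1 (h2' v hv)
      simp only [smul_eq_mul] at hp hq
      rw [← Finset.add_sum_erase _ _ (Finset.mem_univ i)] at hp hq
      have hq2 : ∑ k ∈ Finset.univ.erase i, q k * t A (Function.update x i y k) =
          ∑ k ∈ Finset.univ.erase i, q k * t A (x k) := by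
        refine Finset.sum_congr rfl fun k hk => ?_
        rw [Function.update_of_ne (Finset.ne_of_mem_erase hk)]
      rw [hq2, Function.update_self] at hq
      refine ⟨fun k => p k * (q i * t A y + ∑ k ∈ Finset.univ.erase i, q k * t A (x k)) + p i * t A (x i) * q k,
        p i * q i, ?_⟩
      have e1 : (G₁ * G₂) * (u * v) = (G₁ * u) * (G₂ * v) := by ring
      rw [e1, ← hp, ← hq]
      simp only [add_mul, Finset.sum_add_distrib]
      have e2 : ∀ (f : Fin n → B ⊗[A] B) (z : B ⊗[A] B), ∑ k ∈ Finset.univ.erase i, f k * z * t A (x k) =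
          (∑ k ∈ Finset.univ.erase i, f k * t A (x k)) * z := fun f z => by
        rw [Finset.sum_mul]
        exact Finset.sum_congr rfl fun k _ => by ring
      have e3 : ∑ k ∈ Finset.univ.erase i, p i * t A (x i) * q k * t A (x k) =
          p i * t A (x i) * ∑ k ∈ Finset.univ.erase i, q k * t A (x k) := by
        rw [Finset.mul_sum]
        exact Finset.sum_congr rfl fun k _ => by ring
      rw [e2, e3]
      ring
    · obtain ⟨α, β, h⟩ := hu
      obtain ⟨α', β', h'⟩ := hv
      refine ⟨α + α', β + β', ?_⟩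
      rw [mul_add, h, h']
      simp only [Pi.add_apply, add_mul, Finset.sum_add_distrib]
      ring
  refine ⟨G₁ * G₂, ?_, ?_⟩
  · have : G₁ * G₂ - 1 = (G₁ - 1) * G₂ + (G₂ - 1) := by ring
    rw [this]
    exact Ideal.add_mem _ (Ideal.mul_mem_right _ _ h1) h2
  · have h3 : KaehlerDifferential.D A B y =
        ∑ k, (if k = i then c else a k) • KaehlerDifferential.D A B (x k) := by
      rw [← Finset.add_sum_erase _ _ (Finset.mem_univ i), if_pos rfl]
      rw [sub_eq_iff_eq_add'] at hc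
      rw [hc]
      congr 1
      refine Finset.sum_congr rfl fun k hk => ?_
      rw [if_neg (Finset.ne_of_mem_erase hk)]
    have h4 := sub_sum_mem Finset.univ x _ y h3
    rw [pow_two] at h4
    obtain ⟨α, β, h5⟩ := key _ h4
    refine ⟨fun k => α k + G₁ * G₂ * (a k ⊗ₜ[A] (1 : B)), β, ?_⟩
    rw [← Finset.add_sum_erase _ _ (Finset.mem_univ i), if_pos rfl] at h5
    have h6 : ∑ k ∈ Finset.univ.erase i, (if k = i then c else a k) ⊗ₜ[A] (1 : B) * t A (x k) =
        ∑ k ∈ Finset.univ.erase i, a k ⊗ₜ[A] (1 : B) * t A (x k) := by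
      refine Finset.sum_congr rfl fun k hk => ?_
      rw [if_neg (Finset.ne_of_mem_erase hk)]
    rw [h6] at h5
    have h7 : ∑ k ∈ Finset.univ.erase i, (α k + G₁ * G₂ * (a k ⊗ₜ[A] (1 : B))) * t A (x k) =
        ∑ k ∈ Finset.univ.erase i, α k * t A (x k) +
          G₁ * G₂ * ∑ k ∈ Finset.univ.erase i, a k ⊗ₜ[A] (1 : B) * t A (x k) := by
      rw [Finset.mul_sum, ← Finset.sum_add_distrib]
      exact Finset.sum_congr rfl fun k _ => by ring
    rw [h7]
    linear_combination h5

/-- **Change of one coordinate** near the diagonal. -/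
theorem exists_change [Algebra.FiniteType A B] {n : ℕ} (x : Fin n → B)
    (hx : ⊤ ≤ Submodule.span B (Set.range fun i => KaehlerDifferential.D A B (x i))) (i : Fin n) (y : B)
    (hy : ⊤ ≤ Submodule.span B (Set.range fun k => KaehlerDifferential.D A B (Function.update x i y k))) (c : B)
    (hc : KaehlerDifferential.D A B y - c • KaehlerDifferential.D A B (x i) ∈
      Submodule.span B ((fun k => KaehlerDifferential.D A B (x k)) '' {k | k ≠ i})) :
    ∃ G : B ⊗[A] B, G - 1 ∈ I A B ∧ ∃ (α : Fin n → B ⊗[A] B) (β : B ⊗[A] B),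
      G * (t A y - (c ⊗ₜ[A] (1 : B)) * t A (x i)) =
        ∑ k ∈ Finset.univ.erase i, α k * t A (x k) + β * (t A (x i) * t A y) := by
  classical
  have h1 : ({k | k ≠ i} : Set (Fin n)) = ↑(Finset.univ.erase i) := by
    ext k
    simp
  rw [h1] at hc
  obtain ⟨a, ha⟩ := (Submodule.mem_span_image_finset_iff_exists_fun B).1 hc
  refine exists_change_sum x hx i y hy c (fun k => if h : k ∈ Finset.univ.erase i then a ⟨k, h⟩ else 0) ?_
  rw [← ha, ← Finset.sum_coe_sort (Finset.univ.erase i)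
    (fun k => (if h : k ∈ Finset.univ.erase i then a ⟨k, h⟩ else 0) • KaehlerDifferential.D A B (x k))]
  refine Finset.sum_congr rfl fun k _ => ?_
  rw [dif_pos k.2]

end K494.DiagAlg
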