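import Groth.Agent.DeRhamSh.K494.DiagAlg
import Mathlib.RingTheory.TensorProduct.Basic

/-!
# Relations on the diagonal, for two maps `a, b : B → C`
-/

set_option autoImplicit false

open TensorProduct

namespace K494.DiagRel

open K494.DiagAlg

variable {A B C : Type*} [CommRing A] [CommRing B] [Algebra A B] [CommRing C]

/-- The map `B ⊗ B → C`, `x ⊗ y ↦ a x * b y`. -/
theorem exists_map (a b : B →+* C) (hab : ∀ r : A, a (algebraMap A B r) = b (algebraMap A B r)) :
    ∃ φ : B ⊗[A] B →+* C, ∀ x y, φ (x ⊗ₜ y) = a x * b y := by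
  let _ : Algebra A C := (a.comp (algebraMap A B)).toAlgebra
  let a' : B →ₐ[A] C := { a with commutes' := fun _ => rfl }
  let b' : B →ₐ[A] C := { b with commutes' := fun r => (hab r).symm }
  exact ⟨(Algebra.TensorProduct.productMap a' b').toRingHom, fun x y =>
    Algebra.TensorProduct.productMap_apply_tmul a' b' x y⟩

theorem map_t {a b : B →+* C} {φ : B ⊗[A] B →+* C} (hφ : ∀ x y, φ (x ⊗ₜ y) = a x * b y) (x : B) :
    φ (t A x) = a x - b x := by
  rw [map_sub, hφ, hφ, map_one, map_one, mul_one, one_mul]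

/-- Elements of the ideal of the diagonal map to the ideal generated by the `a r - b r`. -/
theorem map_mem {a b : B →+* C} {φ : B ⊗[A] B →+* C} (hφ : ∀ x y, φ (x ⊗ₜ y) = a x * b y) {z : B ⊗[A] B}
    (hz : z ∈ I A B) : φ z ∈ Ideal.span (Set.range fun r => a r - b r) := by
  rw [I, ← KaehlerDifferential.span_range_eq_ideal] at hz
  have h1 := Ideal.mem_map_of_mem φ hz
  rw [Ideal.map_span] at h1
  refine (Ideal.span_le.2 ?_) h1
  rintro _ ⟨_, ⟨r, rfl⟩, rfl⟩
  have h2 : φ ((1 : B) ⊗ₜ[A] r - r ⊗ₜ[A] (1 : B)) = -(a r - b r) := by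
    rw [← map_t hφ, ← map_neg, neg_sub]
  change φ ((1 : B) ⊗ₜ[A] r - r ⊗ₜ[A] (1 : B)) ∈ _
  rw [h2]
  exact neg_mem (Ideal.subset_span ⟨r, rfl⟩)

theorem gen [Algebra.FiniteType A B] (a b : B →+* C) (hab : ∀ r : A, a (algebraMap A B r) = b (algebraMap A B r))
    {n : ℕ} (x : Fin n → B) (hx : ⊤ ≤ Submodule.span B (Set.range fun i => KaehlerDifferential.D A B (x i))) :
    ∃ G : C, G - 1 ∈ Ideal.span (Set.range fun r => a r - b r) ∧
      ∀ r, G * (a r - b r) ∈ Ideal.span (Set.range fun i => a (x i) - b (x i)) := by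
  obtain ⟨φ, hφ⟩ := exists_map a b hab
  obtain ⟨G, h1, h2⟩ := exists_gen x hx
  refine ⟨φ G, ?_, fun r => ?_⟩
  · have := map_mem hφ h1
    rwa [map_sub, map_one] at this
  · have h3 := Ideal.mem_map_of_mem φ (h2 (t A r) (t_mem r))
    rw [map_mul, map_t hφ, Ideal.map_span] at h3
    refine (Ideal.span_le.2 ?_) h3
    rintro _ ⟨_, ⟨i, rfl⟩, rfl⟩
    rw [map_t hφ]
    exact Ideal.subset_span ⟨i, rfl⟩

theorem change [Algebra.FiniteType A B] (a b : B →+* C)
    (hab : ∀ r : A, a (algebraMap A B r) = b (algebraMap A B r)) {n : ℕ} (x : Fin n → B)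
    (hx : ⊤ ≤ Submodule.span B (Set.range fun i => KaehlerDifferential.D A B (x i))) (i : Fin n) (y : B)
    (hy : ⊤ ≤ Submodule.span B (Set.range fun k => KaehlerDifferential.D A B (Function.update x i y k))) (c : B)
    (hc : KaehlerDifferential.D A B y - c • KaehlerDifferential.D A B (x i) ∈
      Submodule.span B ((fun k => KaehlerDifferential.D A B (x k)) '' {k | k ≠ i})) :
    ∃ G : C, G - 1 ∈ Ideal.span (Set.range fun r => a r - b r) ∧ ∃ (α : Fin n → C) (β : C),
      G * ((a y - b y) - a c * (a (x i) - b (x i))) =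
        ∑ k ∈ Finset.univ.erase i, α k * (a (x k) - b (x k)) + β * ((a (x i) - b (x i)) * (a y - b y)) := by
  obtain ⟨φ, hφ⟩ := exists_map a b hab
  obtain ⟨G, h1, α, β, h2⟩ := exists_change x hx i y hy c hc
  refine ⟨φ G, ?_, fun k => φ (α k), φ β, ?_⟩
  · have := map_mem hφ h1
    rwa [map_sub, map_one] at this
  · have h3 := congrArg φ h2
    simp only [map_mul, map_sub φ (t A y), map_add, map_sum, map_t hφ, hφ, map_one, mul_one] at h3
    exact h3

end K494.DiagRel
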