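import Mathlib.LinearAlgebra.Dimension.Finrank
import Mathlib.LinearAlgebra.LinearIndependent.Lemmas
import Mathlib.LinearAlgebra.FiniteDimensional.Lemmas
import Mathlib.Algebra.BigOperators.Fin
import Mathlib.Algebra.BigOperators.Ring.Finset

/-!
# Bases are connected by replacements of one vector; a finite Taylor expansion
-/

set_option autoImplicit false

namespace K494.Steinitz

section Basis

variable {κ E G : Type*} [Field κ] [AddCommGroup E] [Module κ E] [AddCommGroup G] (δ : G →+ E)

theorem comp_update {n : ℕ} (x : Fin n → G) (i : Fin n) (g : G) :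
    δ ∘ Function.update x i g = Function.update (δ ∘ x) i (δ g) := by
  funext k
  by_cases h : k = i
  · subst h
    simp
  · simp [Function.update_of_ne h]

/-- Replacement of the `i`-th vector by one with nonzero `i`-th coordinate. -/
theorem li_update {n : ℕ} (x : Fin n → G) (hx : LinearIndependent κ (δ ∘ x)) (i : Fin n) (g : G) (c : Fin n → κ)
    (hc : δ g = ∑ k, c k • δ (x k)) (hi : c i ≠ 0) : LinearIndependent κ (δ ∘ Function.update x i g) := by
  rw [comp_update]
  refine hx.update i _ ⟨1, one_mem _, Finsupp.equivFunOnFinite.symm c, ?_, ?_⟩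
  · exact mem_nonZeroDivisors_of_ne_zero hi
  · rw [one_smul, hc, Finsupp.linearCombination_apply]
    exact (Finsupp.sum_fintype (Finsupp.equivFunOnFinite.symm c) (fun k a => a • (δ ∘ x) k)
      (fun k => zero_smul κ _)).symm

/-- **Steinitz**: two bases (given by elements of `G`) are connected by replacements of one vector. -/
theorem connected (n : ℕ) (hE : Module.finrank κ E = n) (R : (Fin n → G) → (Fin n → G) → Prop)
    (hrefl : ∀ x, R x x) (htrans : ∀ x y z, R x y → R y z → R x z)
    (hR : ∀ (x : Fin n → G) (i : Fin n) (g : G), LinearIndependent κ (δ ∘ x) →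
      LinearIndependent κ (δ ∘ Function.update x i g) → R x (Function.update x i g))
    (x y : Fin n → G) (hx : LinearIndependent κ (δ ∘ x)) (hy : LinearIndependent κ (δ ∘ y)) : R x y := by
  rcases Nat.eq_zero_or_pos n with rfl | hn
  · rw [Subsingleton.elim x y]
    exact hrefl y
  have hfin : FiniteDimensional κ E := FiniteDimensional.of_finrank_pos (hE.symm ▸ hn)
  have hspan : ∀ z : Fin n → G, LinearIndependent κ (δ ∘ z) → ∀ v : E, ∃ c : Fin n → κ, v = ∑ k, c k • δ (z k) := by
    intro z hz v
    have h1 : Submodule.span κ (Set.range (δ ∘ z)) = ⊤ :=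
      hz.span_eq_top_of_card_eq_finrank' (by rw [Fintype.card_fin, hE])
    obtain ⟨c, hc⟩ := (Submodule.mem_span_range_iff_exists_fun κ).1 (h1.ge (Submodule.mem_top (x := v)))
    exact ⟨c, hc.symm⟩
  have key : ∀ S : Finset (Fin n), ∃ x' : Fin n → G, LinearIndependent κ (δ ∘ x') ∧ R x x' ∧ ∀ j ∈ S, x' j = y j := by
    intro S
    induction S using Finset.induction_on with
    | empty => exact ⟨x, hx, hrefl x, fun j hj => absurd hj (Finset.notMem_empty j)⟩
    | insert i S hi ih =>
      obtain ⟨x', hx', hR', hS⟩ := ih
      obtain ⟨c, hc⟩ := hspan x' hx' (δ (y i))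
      -- it suffices to treat the case of a nonzero coordinate
      have main : ∀ (z : Fin n → G), LinearIndependent κ (δ ∘ z) → R x z → (∀ j ∈ S, z j = y j) →
          ∀ c : Fin n → κ, δ (y i) = ∑ k, c k • δ (z k) → c i ≠ 0 →
          ∃ x' : Fin n → G, LinearIndependent κ (δ ∘ x') ∧ R x x' ∧ ∀ j ∈ insert i S, x' j = y j := by
        intro z hz hRz hSz c hc hci
        have h1 := li_update δ z hz i (y i) c hc hci
        refine ⟨Function.update z i (y i), h1, htrans _ _ _ hRz (hR z i (y i) hz h1), fun j hj => ?_⟩
        by_cases h : j = i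
        · subst h
          exact Function.update_self _ _ _
        · rw [Function.update_of_ne h]
          exact hSz j ((Finset.mem_insert.1 hj).resolve_left h)
      by_cases hci : c i = 0
      · -- some other coordinate outside `S` is nonzero
        have hex : ∃ k, k ∉ S ∧ k ≠ i ∧ c k ≠ 0 := by
          by_contra hcon
          push Not at hcon
          have h1 : δ (y i) = ∑ k ∈ S, c k • δ (y k) := by
            rw [hc]
            symm
            rw [Finset.sum_congr rfl (fun k hk => by rw [← hS k hk])]
            refine Finset.sum_subset (Finset.subset_univ S) fun k _ hk => ?_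
            by_cases h : k = i
            · rw [h, hci, zero_smul]
            · rw [hcon k hk h, zero_smul]
          have h2 := linearIndependent_iff'.1 hy (insert i S) (fun k => if k = i then -1 else c k) (by
            rw [Finset.sum_insert hi, if_pos rfl, neg_one_smul]
            have h3 : ∑ k ∈ S, (if k = i then (-1 : κ) else c k) • (δ ∘ y) k = ∑ k ∈ S, c k • δ (y k) := by
              refine Finset.sum_congr rfl fun k hk => ?_
              rw [if_neg (fun h : k = i => hi (h ▸ hk))]
              rfl
            rw [h3, ← h1]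
            exact neg_add_cancel _) i (Finset.mem_insert_self i S)
          rw [if_pos rfl] at h2
          exact (neg_ne_zero.2 one_ne_zero) h2
        obtain ⟨k, hkS, hki, hck⟩ := hex
        -- replace `x' k` by `x' k + x' i`
        have h1 : δ (x' k + x' i) = ∑ l, (Pi.single k 1 + Pi.single i 1 : Fin n → κ) l • δ (x' l) := by
          simp only [Pi.add_apply, add_smul, Finset.sum_add_distrib, Pi.single_apply, ite_smul, one_smul, zero_smul,
            Finset.sum_ite_eq', Finset.mem_univ, if_true, map_add]
        have h2 := li_update δ x' hx' k (x' k + x' i) _ h1 (by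
          rw [Pi.add_apply, Pi.single_eq_same, Pi.single_eq_of_ne hki, add_zero]
          exact one_ne_zero)
        refine main (Function.update x' k (x' k + x' i)) h2 (htrans _ _ _ hR' (hR x' k _ hx' h2)) ?_
          (fun l => if l = i then -c k else c l) ?_ ?_
        · intro j hj
          rw [Function.update_of_ne (fun h : j = k => hkS (h ▸ hj))]
          exact hS j hj
        · rw [hc]
          have e1 : ∀ (f g : Fin n → κ) (u v : Fin n → E), (∀ l, l ≠ i → l ≠ k → f l • u l = g l • v l) →
              f i • u i + f k • u k = g i • v i + g k • v k → ∑ l, f l • u l = ∑ l, g l • v l := by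
            intro f g u v hfg hik
            rw [← Finset.add_sum_erase _ _ (Finset.mem_univ i), ← Finset.add_sum_erase _ _ (Finset.mem_univ i),
              ← Finset.add_sum_erase _ _ (Finset.mem_erase.2 ⟨hki, Finset.mem_univ k⟩),
              ← Finset.add_sum_erase _ (fun l => g l • v l) (Finset.mem_erase.2 ⟨hki, Finset.mem_univ k⟩),
              ← add_assoc, ← add_assoc, hik]
            congr 1
            refine Finset.sum_congr rfl fun l hl => ?_
            rw [Finset.mem_erase, Finset.mem_erase] at hl
            exact hfg l hl.2.1 hl.1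
          refine e1 c _ (fun l => δ (x' l)) (fun l => δ (Function.update x' k (x' k + x' i) l)) (fun l hl hl' => ?_) ?_
          · rw [if_neg hl, Function.update_of_ne hl']
          · rw [if_pos rfl, if_neg hki, hci, Function.update_of_ne (Ne.symm hki), Function.update_self, map_add,
              smul_add, zero_smul, neg_smul]
            abel
        · rw [if_pos rfl]
          exact neg_ne_zero.2 hck
      · exact main x' hx' hR' hS c hc hci
  obtain ⟨x', -, h2, h3⟩ := key Finset.univ
  have h4 : x' = y := funext fun j => h3 j (Finset.mem_univ j)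
  rwa [h4] at h2

end Basis

section Taylor

variable {R : Type*} [CommRing R]

theorem geom (m : ℕ) (z v s : R) (hz : z * v = 1) (hs : s ^ (m + 1) = 0) :
    (z - s) * ∑ j : Fin (m + 1), s ^ (j : ℕ) * v ^ ((j : ℕ) + 1) = 1 := by
  rw [Fin.sum_univ_eq_sum_range (fun j => s ^ j * v ^ (j + 1)) (m + 1)]
  have key : ∀ k : ℕ, (z - s) * ∑ j ∈ Finset.range k, s ^ j * v ^ (j + 1) = 1 - s ^ k * v ^ k := by
    intro k
    induction k with
    | zero => simp
    | succ k ih =>
      rw [Finset.sum_range_succ, mul_add, ih]
      have : (z - s) * (s ^ k * v ^ (k + 1)) = s ^ k * v ^ k * (z * v) - s ^ (k + 1) * v ^ (k + 1) := by ring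
      rw [this, hz]
      ring
  rw [key, hs, zero_mul, sub_zero]

/-- **Expansion of `1 / ∏ (z i - s i)`**, `s i` nilpotent. -/
theorem prod_expand (n m : ℕ) (z v s : Fin n → R) (hz : ∀ i, z i * v i = 1) (hs : ∀ i, s i ^ (m + 1) = 0) :
    (∏ i, (z i - s i)) * ∑ c : Fin n → Fin (m + 1), ∏ i, (s i ^ (c i : ℕ) * v i ^ ((c i : ℕ) + 1)) = 1 := by
  have h1 : ∑ c : Fin n → Fin (m + 1), ∏ i, (s i ^ (c i : ℕ) * v i ^ ((c i : ℕ) + 1)) =
      ∏ i, ∑ j : Fin (m + 1), s i ^ (j : ℕ) * v i ^ ((j : ℕ) + 1) := by
    rw [Finset.prod_univ_sum, Fintype.piFinset_univ]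
  rw [h1, ← Finset.prod_mul_distrib]
  exact Finset.prod_eq_one fun i _ => geom m _ _ _ (hz i) (hs i)

end Taylor

end K494.Steinitz
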