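import Groth.Agent.DeRhamSh.K853.EtCoord
import Groth.Agent.DeRhamSh.K494.Steinitz
import Groth.Agent.DeRhamSh.K494.BasisChange

/-!
# Local independence of the coordinates

A quantity `u(W, x)` depending on an affine open `W` and on functions `x_1, …, x_n` on `W` whose differentials
generate, which does not change when one of the functions is replaced by another one, is locally
independent of the `x_i`.
-/

set_option autoImplicit false

universe u

open CategoryTheory CategoryTheory.Limits AlgebraicGeometry TopologicalSpace Opposite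

namespace K494.LocIndep

open K853.EtCoord K494.BasisChange

variable {A : Type u} [CommRing A] {X : Scheme.{u}} (f : X ⟶ Spec (CommRingCat.of A)) {n : ℕ}

/-- The differentials of the `x i` generate. -/
def Crd (V : X.Opens) (x : Fin n → Γ(X, V)) : Prop :=
  letI := K184.Const.alg f V
  ⊤ ≤ Submodule.span Γ(X, V) (Set.range fun i => KaehlerDifferential.D A Γ(X, V) (x i))

/-- Restriction of coordinates. -/
def rx {V W : X.Opens} (h : W ≤ V) (x : Fin n → Γ(X, V)) : Fin n → Γ(X, W) :=
  fun i => X.presheaf.map (homOfLE h).op (x i)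

theorem rx_rx {U V W : X.Opens} (h : V ≤ U) (h' : W ≤ V) (x : Fin n → Γ(X, U)) :
    rx h' (rx h x) = rx (h'.trans h) x := by
  funext i
  exact (ConcreteCategory.congr_hom (X.presheaf.map_comp (homOfLE h).op (homOfLE h').op) (x i)).symm

theorem rx_update {V W : X.Opens} (h : W ≤ V) (x : Fin n → Γ(X, V)) (i : Fin n) (g : Γ(X, V)) :
    rx h (Function.update x i g) = Function.update (rx h x) i (X.presheaf.map (homOfLE h).op g) := by
  funext k
  by_cases hk : k = i
  · subst hk
    simp [rx]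
  · simp [rx, Function.update_of_ne hk]

theorem etale_res {V W : X.Opens} (hV : IsAffineOpen V) (hW : IsAffineOpen W) (hWV : W ≤ V) :
    (X.presheaf.map (homOfLE hWV).op).hom.Etale := by
  have e : W ≤ (𝟙 X : X ⟶ X) ⁻¹ᵁ V := hWV
  have h2 := Scheme.Hom.etale_appLE (𝟙 X) hV hW e
  have h3 : (𝟙 X : X ⟶ X).appLE V W e = X.presheaf.map (homOfLE hWV).op := by
    simp only [Scheme.Hom.appLE, Scheme.Hom.id_app]
    exact Category.id_comp _
  rwa [h3] at h2

variable {f} in
/-- Restriction. -/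
theorem Crd.res {V W : X.Opens} {x : Fin n → Γ(X, V)} (hx : Crd f V x) (hV : IsAffineOpen V) (hW : IsAffineOpen W)
    (h : W ≤ V) : Crd f W (rx h x) := by
  let _ := K184.Const.alg f V
  let _ := K184.Const.alg f W
  let _ : Algebra Γ(X, V) Γ(X, W) := (X.presheaf.map (homOfLE h).op).hom.toAlgebra
  have : IsScalarTower A Γ(X, V) Γ(X, W) := IsScalarTower.of_algebraMap_eq fun a => (K184.Const.res_str f h a).symm
  have h1 : (algebraMap Γ(X, V) Γ(X, W)).Etale := etale_res hV hW h
  have : Algebra.Etale Γ(X, V) Γ(X, W) := RingHom.etale_algebraMap.1 h1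
  exact span_map x hx

variable {f} in
/-- Étale coordinates generate. -/
theorem crd_of_isCoord {V : X.Opens} {z : Fin n → Γ(X, V)} (h : IsCoord f V z) : Crd f V z := by
  let _ := K184.Const.alg f V
  obtain ⟨b, hb⟩ := h.exists_basis
  change ⊤ ≤ Submodule.span _ (Set.range fun i => KaehlerDifferential.D A Γ(X, V) (z i))
  have h1 : (fun i => KaehlerDifferential.D A Γ(X, V) (z i)) = b := funext fun i => (hb i).symm
  rw [h1, b.span_eq]

theorem isUnit_res {U V : X.Opens} (h : V ≤ U) (t : Γ(X, U)) (h' : V ≤ X.basicOpen t) :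
    IsUnit (X.presheaf.map (homOfLE h).op t) := by
  have h1 : IsUnit (X.presheaf.map (homOfLE (X.basicOpen_le t)).op t) :=
    RingedSpace.isUnit_res_basicOpen X.toRingedSpace t
  have h2 : X.presheaf.map (homOfLE h).op t =
      X.presheaf.map (homOfLE h').op (X.presheaf.map (homOfLE (X.basicOpen_le t)).op t) :=
    ConcreteCategory.congr_hom (X.presheaf.map_comp (homOfLE (X.basicOpen_le t)).op (homOfLE h').op) t
  rw [h2]
  exact h1.map _

/-- Functions whose differentials are independent at a point are coordinates near it. -/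
theorem spread {V : X.Opens} (hV : IsAffineOpen V) {z : Fin n → Γ(X, V)} (hz : IsCoord f V z) (w : Fin n → Γ(X, V))
    (b : letI := K184.Const.alg f V; Module.Basis (Fin n) Γ(X, V) (Ω[Γ(X, V)⁄A]))
    (hb : letI := K184.Const.alg f V; ∀ i, b i = KaehlerDifferential.D A Γ(X, V) (z i))
    {W : X.Opens} (hW : IsAffineOpen W) (h : W ≤ V)
    (hd : letI := K184.Const.alg f V; W ≤ X.basicOpen (mat b w).det) : Crd f W (rx h w) := by
  let _ := K184.Const.alg f V
  let _ := K184.Const.alg f W
  let _ : Algebra Γ(X, V) Γ(X, W) := (X.presheaf.map (homOfLE h).op).hom.toAlgebra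
  have : IsScalarTower A Γ(X, V) Γ(X, W) := IsScalarTower.of_algebraMap_eq fun a => (K184.Const.res_str f h a).symm
  exact span_of_isUnit b z hb ((crd_of_isCoord hz).res hV hW h) w (isUnit_res h _ hd)

theorem u_congr {α : X.Opens → Type*} (u : ∀ (W : X.Opens), IsAffineOpen W → ∀ x : Fin n → Γ(X, W), Crd f W x → α W)
    {W : X.Opens} (hW : IsAffineOpen W) {x y : Fin n → Γ(X, W)} (e : x = y) (hx : Crd f W x) (hy : Crd f W y) :
    u W hW x hx = u W hW y hy := by
  subst e
  rfl

/-- **Local independence.** -/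
theorem local_indep [SmoothOfRelativeDimension n f] {α : X.Opens → Type*}
    (u : ∀ (W : X.Opens), IsAffineOpen W → ∀ x : Fin n → Γ(X, W), Crd f W x → α W)
    (hu : ∀ (W : X.Opens) (hW : IsAffineOpen W) (x : Fin n → Γ(X, W)) (i : Fin n) (g : Γ(X, W)) (hx : Crd f W x)
      (hx' : Crd f W (Function.update x i g)), u W hW x hx = u W hW (Function.update x i g) hx')
    {V : X.Opens} (hV : IsAffineOpen V) (x y : Fin n → Γ(X, V)) (hx : Crd f V x) (hy : Crd f V y) (p : X)
    (hp : p ∈ V) :
    ∃ (W : X.Opens) (hW : IsAffineOpen W) (hWV : W ≤ V) (_ : p ∈ W),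
      ∀ (hx' : Crd f W (rx hWV x)) (hy' : Crd f W (rx hWV y)), u W hW (rx hWV x) hx' = u W hW (rx hWV y) hy' := by
  obtain ⟨V', hV', hpV', hV'V, z, hz⟩ := exists_coord f n p V hp
  let _ := K184.Const.alg f V'
  obtain ⟨b, hb⟩ := hz.exists_basis
  let ev : Γ(X, V') →+* X.residueField p := (X.evaluation V' p hpV').hom
  let δ : Γ(X, V') →+ (Fin n → X.residueField p) := dl b ev
  have hli : ∀ w : Fin n → Γ(X, V'), LinearIndependent (X.residueField p) (δ ∘ w) → p ∈ X.basicOpen (mat b w).det := by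
    intro w hw
    by_contra hcon
    exact (li_iff b ev w).1 hw ((Scheme.evaluation_eq_zero_iff_notMem_basicOpen X p hpV' _).2 hcon)
  have hconv : ∀ w : Fin n → Γ(X, V'), Crd f V' w → LinearIndependent (X.residueField p) (δ ∘ w) := by
    intro w hw
    exact (li_iff b ev w).2 ((isUnit_det b w hw).map ev).ne_zero
  let R : (Fin n → Γ(X, V')) → (Fin n → Γ(X, V')) → Prop := fun w w' =>
    LinearIndependent (X.residueField p) (δ ∘ w) → (LinearIndependent (X.residueField p) (δ ∘ w') ∧
      ∃ W₀ : X.Opens, p ∈ W₀ ∧ ∀ (W : X.Opens) (hW : IsAffineOpen W) (_ : W ≤ W₀) (h' : W ≤ V')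
        (hw : Crd f W (rx h' w)) (hw' : Crd f W (rx h' w')), u W hW _ hw = u W hW _ hw')
  have hR : R (rx hV'V x) (rx hV'V y) := by
    refine Steinitz.connected (κ := X.residueField p) δ n (by simp) R (fun w hw => ⟨hw, ⊤, trivial,
      fun W hW _ h' _ _ => rfl⟩) (fun w₁ w₂ w₃ h12 h23 hw₁ => ?_) (fun w i g hw hw' _ => ⟨hw', ⊤, trivial,
      fun W hW _ h' hx hx' => ?_⟩) _ _ (hconv _ (hx.res hV hV' hV'V)) (hconv _ (hy.res hV hV' hV'V))
    · obtain ⟨hw₂, W₁, hp₁, h1⟩ := h12 hw₁
      obtain ⟨hw₃, W₂, hp₂, h2⟩ := h23 hw₂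
      refine ⟨hw₃, (W₁ ⊓ W₂) ⊓ X.basicOpen (mat b w₂).det, ⟨⟨hp₁, hp₂⟩, hli _ hw₂⟩, fun W hW hle h' hx hx' => ?_⟩
      have hm := spread f hV' hz w₂ b hb hW h' (hle.trans inf_le_right)
      exact (h1 W hW (hle.trans (inf_le_left.trans inf_le_left)) h' hx hm).trans
        (h2 W hW (hle.trans (inf_le_left.trans inf_le_right)) h' hm hx')
    · have hx'' : Crd f W (Function.update (rx h' w) i (X.presheaf.map (homOfLE h').op g)) := by
        rw [← rx_update]
        exact hx'
      exact (hu W hW (rx h' w) i _ hx hx'').trans (u_congr f u hW (rx_update h' w i g).symm hx'' hx')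
  obtain ⟨-, W₀, hpW₀, h0⟩ := hR (hconv _ (hx.res hV hV' hV'V))
  obtain ⟨s, hs1, hs2⟩ := hV'.exists_basicOpen_le ⟨p, hpW₀⟩ hpV'
  refine ⟨X.basicOpen s, hV'.basicOpen s, (X.basicOpen_le s).trans hV'V, hs2, fun hx' hy' => ?_⟩
  have e1 := rx_rx hV'V (X.basicOpen_le s) x
  have e2 := rx_rx hV'V (X.basicOpen_le s) y
  have hx'' : Crd f (X.basicOpen s) (rx (X.basicOpen_le s) (rx hV'V x)) := by rw [e1]; exact hx'
  have hy'' : Crd f (X.basicOpen s) (rx (X.basicOpen_le s) (rx hV'V y)) := by rw [e2]; exact hy'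
  exact (u_congr f u _ e1.symm hx' hx'').trans ((h0 _ _ hs1 _ hx'' hy'').trans (u_congr f u _ e2 hy'' hy'))

end K494.LocIndep
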