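import Groth.Agent.DeRhamSh.K494.DiagRel
import Groth.Agent.DeRhamSh.K494.LocIndep
import Groth.Agent.DeRhamSh.K644.Fr
import Groth.Agent.DeRhamSh.K184.Graph

/-!
# Change of one coordinate near the graph of a section
-/

set_option autoImplicit false

universe u

open CategoryTheory CategoryTheory.Limits AlgebraicGeometry TopologicalSpace Opposite

namespace K494.GeoStep

open K184.Graph K494.LocIndep K644.Fr K644.Kap

variable {A : Type u} [CommRing A] {X Y T : Scheme.{u}} {f : X ⟶ Spec (CommRingCat.of A)}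
  {g : Y ⟶ Spec (CommRingCat.of A)} {j : T ⟶ X} {q : T ⟶ Y} (H : IsPullback j q f g) (h : Y ⟶ X) (w : h ≫ f = g)
  {V : X.Opens} (hh : ⊤ ≤ h ⁻¹ᵁ V) {n : ℕ}

/-- `q^♯ h^♯`. -/
noncomputable def bb (j : T ⟶ X) (q : T ⟶ Y) (h : Y ⟶ X) {V : X.Opens} (hh : ⊤ ≤ h ⁻¹ᵁ V) :
    Γ(X, V) →+* Γ(T, j ⁻¹ᵁ V) :=
  (q.appLE ⊤ (j ⁻¹ᵁ V) le_top).hom.comp (h.appLE V ⊤ hh).hom

theorem df_eq (r : Γ(X, V)) : df j q h hh r = (j.app V).hom r - bb j q h hh r := rfl

include H w in
theorem bb_str (r : A) : (j.app V).hom (K184.Const.str f V r) = bb j q h hh (K184.Const.str f V r) := by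
  have e0 : V ≤ f ⁻¹ᵁ ⊤ := le_top
  have h1 : f.appLE ⊤ V e0 ≫ j.app V = (j ≫ f).appLE ⊤ (j ⁻¹ᵁ V) le_top := by
    rw [Scheme.Hom.app_eq_appLE, Scheme.Hom.appLE_comp_appLE]
  have h2 : f.appLE ⊤ V e0 ≫ h.appLE V ⊤ hh ≫ q.appLE ⊤ (j ⁻¹ᵁ V) le_top =
      (q ≫ h ≫ f).appLE ⊤ (j ⁻¹ᵁ V) le_top := by
    rw [Scheme.Hom.appLE_comp_appLE, Scheme.Hom.appLE_comp_appLE]
    congr 1
  have h3 : (j ≫ f).appLE ⊤ (j ⁻¹ᵁ V) le_top = (q ≫ h ≫ f).appLE ⊤ (j ⁻¹ᵁ V) le_top := by
    congr 1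
    rw [w]
    exact H.w
  have h4 := h1.trans (h3.trans h2.symm)
  exact ConcreteCategory.congr_hom h4 ((Scheme.ΓSpecIso (CommRingCat.of A)).inv r)

/-- Functions congruent to `1` modulo the ideal of the graph. -/
theorem mem_of_sub_one {G : Γ(T, j ⁻¹ᵁ V)}
    (hG : G - 1 ∈ Ideal.span (Set.range fun r => (j.app V).hom r - bb j q h hh r)) (y : Y) :
    gr H h w y ∈ T.basicOpen G := by
  refine mem_basicOpen (gr H h w) (le_preimage_gr H h w hh) ?_ y
  have h1 : Ideal.span (Set.range fun r => (j.app V).hom r - bb j q h hh r) ≤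
      RingHom.ker ((gr H h w).appLE (j ⁻¹ᵁ V) ⊤ (le_preimage_gr H h w hh)).hom := by
    rw [Ideal.span_le]
    rintro _ ⟨r, rfl⟩
    exact appLE_df H h w hh r
  have h2 : (gr H h w).appLE (j ⁻¹ᵁ V) ⊤ (le_preimage_gr H h w hh) (G - 1) = 0 := h1 hG
  rw [map_sub, map_one, sub_eq_zero] at h2
  rw [h2]
  exact isUnit_one

/-- Generators of the ideal of the graph. -/
theorem exists_gen (hft : (K184.Const.str f V).FiniteType) (x : Fin n → Γ(X, V)) (hx : Crd f V x) :
    ∃ G : Γ(T, j ⁻¹ᵁ V), (∀ y, gr H h w y ∈ T.basicOpen G) ∧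
      ∀ r, G * df j q h hh r ∈ Ideal.span (Set.range fun i => df j q h hh (x i)) := by
  let _ := K184.Const.alg f V
  have : Algebra.FiniteType A Γ(X, V) := hft
  obtain ⟨G, h1, h2⟩ := DiagRel.gen (j.app V).hom (bb j q h hh) (bb_str H h w hh) x hx
  exact ⟨G, mem_of_sub_one H h w hh h1, h2⟩

/-- The functions `df (x i)` define the graph near the graph. -/
theorem valid (hV : IsAffineOpen V) (hft : (K184.Const.str f V).FiniteType) (x : Fin n → Γ(X, V)) (hx : Crd f V x)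
    {N : T.Opens} (hN : ∀ p, p ∈ N ↔ p ∉ Set.range (gr H h w)) :
    ∃ (O : T.Opens) (hO : O ≤ j ⁻¹ᵁ V), Valid O N (fun i => rr hO (df j q h hh (x i))) := by
  obtain ⟨G, h1, h2⟩ := exists_gen H h w hh hft x hx
  refine ⟨T.basicOpen G, T.basicOpen_le G, fun i p hp => ?_, fun p _ => ?_, fun p hp hpN => ?_⟩
  · rw [hN]
    rintro ⟨y, rfl⟩
    refine notMem_basicOpen (gr H h w) (le_preimage_gr H h w hh) (appLE_df H h w hh (x i)) y ?_
    rw [rr, T.basicOpen_res] at hp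
    exact hp.2
  · by_cases hp : p ∈ N
    · exact Or.inr hp
    · rw [hN, not_not] at hp
      obtain ⟨y, rfl⟩ := hp
      exact Or.inl (h1 y)
  · obtain ⟨i, hi⟩ := exists_of_gen H h w hh hV (fun i => df j q h hh (x i)) h2 hp ((hN p).1 hpN)
    refine ⟨i, ?_⟩
    rw [rr, T.basicOpen_res]
    exact ⟨hp, hi⟩

/-- **Change of one coordinate.** -/
theorem fv_step (hft : (K184.Const.str f V).FiniteType) (x : Fin n → Γ(X, V)) (hx : Crd f V x) (i : Fin n)
    (y : Γ(X, V)) (hy : Crd f V (Function.update x i y)) {O N : T.Opens} (hO : O ≤ j ⁻¹ᵁ V)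
    (hN : ∀ p, p ∉ N → p ∈ Set.range (gr H h w))
    (hv : Valid O N (fun k => rr hO (df j q h hh (x k))))
    (hv' : Valid O N (fun k => rr hO (df j q h hh (Function.update x i y k)))) (c : Γ(X, V))
    (hc : letI := K184.Const.alg f V
      KaehlerDifferential.D A Γ(X, V) y - c • KaehlerDifferential.D A Γ(X, V) (x i) ∈
      Submodule.span Γ(X, V) ((fun k => KaehlerDifferential.D A Γ(X, V) (x k)) '' {k | k ≠ i}))
    (M : T.Modules) (ω : Γ(M, O)) :
    fv hv M ω = fv hv' M (rr hO ((j.app V).hom c) • ω) := by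
  let _ := K184.Const.alg f V
  have : Algebra.FiniteType A Γ(X, V) := hft
  obtain ⟨G, h1, α, β, h2⟩ := DiagRel.change (j.app V).hom (bb j q h hh) (bb_str H h w hh) x hx i y hy c hc
  have h1' := mem_of_sub_one H h w hh h1
  simp only [← df_eq] at h2
  let O' : T.Opens := O ⊓ T.basicOpen G
  have hO' : O' ≤ O := inf_le_left
  have hcov : ⊤ ≤ O' ⊔ N := by
    intro p _
    by_cases hp : p ∈ N
    · exact Or.inr hp
    · obtain ⟨z, rfl⟩ := hN p hp
      refine Or.inl ⟨?_, h1' z⟩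
      rcases hv.h2 (show gr H h w z ∈ (⊤ : T.Opens) from trivial) with h3 | h3
      · exact h3
      · exact absurd h3 hp
  let a : T.Opens → Prop := fun _ => True
  let ρ : Γ(T, j ⁻¹ᵁ V) →+* Γ(T, O') := rr (hO'.trans hO)
  have hGu : IsUnit (ρ G) := isUnit_res (hO'.trans hO) G inf_le_right
  obtain ⟨v, hvG⟩ := hGu
  have hv1 : Valid O' N (fun k => ρ (df j q h hh (x k))) := by
    have := hv.res hO' hcov
    simpa only [rr_rr] using this
  have e1 : (fun k => ρ (df j q h hh (Function.update x i y k))) =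
      Function.update (fun k => ρ (df j q h hh (x k))) i (ρ (df j q h hh y)) := by
    funext k
    by_cases hk : k = i
    · subst hk
      simp
    · simp [Function.update_of_ne hk]
  have hv2 : Valid O' N (Function.update (fun k => ρ (df j q h hh (x k))) i (ρ (df j q h hh y))) := by
    have := hv'.res hO' hcov
    rw [← e1]
    simpa only [rr_rr] using this
  have h3 := congrArg ρ h2
  simp only [map_mul, map_sub ρ (df j q h hh y), map_add, map_sum, ← hvG] at h3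
  have h4 : ρ (df j q h hh y) - ρ ((j.app V).hom c) * ρ (df j q h hh (x i)) =
      ∑ k ∈ Finset.univ.erase i, (((v⁻¹ : Γ(T, O')ˣ) : Γ(T, O')) * ρ (α k)) * ρ (df j q h hh (x k)) +
        (((v⁻¹ : Γ(T, O')ˣ) : Γ(T, O')) * ρ β) * (ρ (df j q h hh (x i)) * ρ (df j q h hh y)) := by
    have h5 := congrArg (fun z => ((v⁻¹ : Γ(T, O')ˣ) : Γ(T, O')) * z) h3
    simp only [← mul_assoc, Units.inv_mul, one_mul, mul_add, Finset.mul_sum] at h5
    simp only [mul_assoc] at h5 ⊢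
    exact h5
  rw [fv_res hv hO' hv1 (fun k => (rr_rr _ _ _).symm) M ω, fv_res hv' hO' hv2 (fun k => by
      rw [rr_rr, ← congrFun e1 k]) M _, mr_smul, rr_rr]
  exact fv_change hv1 i _ _ _ _ h4 hv2 M _

end K494.GeoStep
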