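import Groth.Agent.DeRhamSh.K494.WtStep
import Groth.Agent.DeRhamSh.K184.GlueD
import Groth.Agent.DeRhamSh.K184.BcPsi
import Groth.Agent.DeRhamSh.K184.GraphCv
import Groth.Agent.DeRhamSh.K853.VanAsm

/-!
# The class of the diagonal in coordinates
-/

set_option autoImplicit false

universe u

open CategoryTheory CategoryTheory.Limits AlgebraicGeometry TopologicalSpace Opposite

namespace K494.UCls

open K184.Const K184.Graph K494.LocIndep K644.Fr K644.Kap Groth.Agent.VarietyB.PullSec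

variable {A : Type u} [CommRing A] {X : Scheme.{u}} (f : X ⟶ Spec (CommRingCat.of A))

/-- `X ×_A V`. -/
noncomputable abbrev T (V : X.Opens) : Scheme.{u} := pullback f (Spec.map (CommRingCat.ofHom (str f V)))

/-- The projection to `X`. -/
noncomputable abbrev j (V : X.Opens) : T f V ⟶ X := pullback.fst f (Spec.map (CommRingCat.ofHom (str f V)))

/-- The projection to `V`. -/
noncomputable abbrev q (V : X.Opens) : T f V ⟶ Spec Γ(X, V) := pullback.snd f (Spec.map (CommRingCat.ofHom (str f V)))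

theorem H (V : X.Opens) : IsPullback (j f V) (q f V) f (Spec.map (CommRingCat.ofHom (str f V))) :=
  IsPullback.of_hasPullback f (Spec.map (CommRingCat.ofHom (str f V)))

theorem w {V : X.Opens} (hV : IsAffineOpen V) : hV.fromSpec ≫ f = Spec.map (CommRingCat.ofHom (str f V)) := by
  have e0 : V ≤ f ⁻¹ᵁ ⊤ := le_top
  have h1 := IsAffineOpen.SpecMap_appLE_fromSpec f (isAffineOpen_top (Spec (CommRingCat.of A))) hV e0
  have h2 : CommRingCat.ofHom (str f V) = (Scheme.ΓSpecIso (CommRingCat.of A)).inv ≫ f.appLE ⊤ V e0 := rfl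
  rw [← h1, h2, Spec.map_comp, IsAffineOpen.fromSpec_top, Scheme.isoSpec_Spec_inv]

theorem hh {V : X.Opens} (hV : IsAffineOpen V) : ⊤ ≤ hV.fromSpec ⁻¹ᵁ V := hV.fromSpec_preimage_self.ge

/-- The diagonal. -/
noncomputable def γ {V : X.Opens} (hV : IsAffineOpen V) : Spec Γ(X, V) ⟶ T f V := gr (H f V) hV.fromSpec (w f hV)

@[reassoc]
theorem γ_j {V : X.Opens} (hV : IsAffineOpen V) : γ f hV ≫ j f V = hV.fromSpec := gr_fst _ _ _

@[reassoc]
theorem γ_q {V : X.Opens} (hV : IsAffineOpen V) : γ f hV ≫ q f V = 𝟙 _ := gr_snd _ _ _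

/-- `x ⊗ 1 - 1 ⊗ x`. -/
noncomputable def t {V : X.Opens} (hV : IsAffineOpen V) (x : Γ(X, V)) : Γ(T f V, j f V ⁻¹ᵁ V) :=
  df (j f V) (q f V) hV.fromSpec (hh hV) x

theorem isClosed_γ [IsSeparated f] {V : X.Opens} (hV : IsAffineOpen V) : IsClosed (Set.range (γ f hV)) :=
  have := isClosedImmersion_gr (H f V) hV.fromSpec (w f hV)
  (gr (H f V) hV.fromSpec (w f hV)).isClosedEmbedding.isClosed_range

/-- The complement of the diagonal. -/
noncomputable def N [IsSeparated f] {V : X.Opens} (hV : IsAffineOpen V) : (T f V).Opens :=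
  K184.GraphCv.cpl (γ f hV) (isClosed_γ f hV)

theorem mem_N [IsSeparated f] {V : X.Opens} (hV : IsAffineOpen V) (p : T f V) :
    p ∈ N f hV ↔ p ∉ Set.range (γ f hV) := Iff.rfl

theorem finiteType_str [LocallyOfFiniteType f] {V : X.Opens} (hV : IsAffineOpen V) : (str f V).FiniteType := by
  have e0 : V ≤ f ⁻¹ᵁ ⊤ := le_top
  have h1 : (f.appLE ⊤ V e0).hom.FiniteType :=
    LocallyOfFiniteType.finiteType_appLE f (isAffineOpen_top _) hV e0
  have h2 : (Scheme.ΓSpecIso (CommRingCat.of A)).inv.hom.FiniteType :=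
    RingHom.FiniteType.of_surjective _ (ConcreteCategory.bijective_of_isIso (Scheme.ΓSpecIso (CommRingCat.of A)).inv).2
  exact h1.comp h2

section

variable [IsSeparated f] [LocallyOfFiniteType f] {n : ℕ}

theorem exists_valid {V : X.Opens} (hV : IsAffineOpen V) (x : Fin n → Γ(X, V)) (hx : Crd f V x) :
    ∃ (O : (T f V).Opens) (hO : O ≤ j f V ⁻¹ᵁ V), Valid O (N f hV) (fun i => rr hO (t f hV (x i))) :=
  GeoStep.valid (H f V) hV.fromSpec (w f hV) (hh hV) hV (finiteType_str f hV) x hx (mem_N f hV)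

/-- The class of the diagonal, in coordinates. -/
noncomputable def U (D : DeRhamSh.OmegaCx f) {e : ℕ} (V : X.Opens) (hV : IsAffineOpen V)
    (x : Fin (e + 1) → Γ(X, V)) (hx : Crd f V x) :
    Coh.HH (T f V) ((Scheme.Modules.pullback (j f V)).obj (D.term (e + 1))) (e + 1) :=
  fv (exists_valid f hV x hx).choose_spec.choose_spec ((Scheme.Modules.pullback (j f V)).obj (D.term (e + 1)))
    (sec (j f V) (D.term (e + 1)) (exists_valid f hV x hx).choose_spec.choose (K854.FracForm.wt f D ⟨V, hV⟩ x))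

theorem U_eq (D : DeRhamSh.OmegaCx f) {e : ℕ} {V : X.Opens} (hV : IsAffineOpen V)
    (x : Fin (e + 1) → Γ(X, V)) (hx : Crd f V x) {O : (T f V).Opens} (hO : O ≤ j f V ⁻¹ᵁ V)
    (hv : Valid O (N f hV) (fun i => rr hO (t f hV (x i)))) :
    U f D V hV x hx = fv hv ((Scheme.Modules.pullback (j f V)).obj (D.term (e + 1)))
      (sec (j f V) (D.term (e + 1)) hO (K854.FracForm.wt f D ⟨V, hV⟩ x)) :=
  WtStep.fv_open (D.term (e + 1)) (K854.FracForm.wt f D ⟨V, hV⟩ x) _ hO (fun i => t f hV (x i)) _ hv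

/-- One replacement. -/
theorem U_step (D : DeRhamSh.OmegaCx f) {e : ℕ} (V : X.Opens) (hV : IsAffineOpen V)
    (x : Fin (e + 1) → Γ(X, V)) (i : Fin (e + 1)) (y : Γ(X, V)) (hx : Crd f V x)
    (hx' : Crd f V (Function.update x i y)) :
    U f D V hV x hx = U f D V hV (Function.update x i y) hx' := by
  obtain ⟨O, hO, hv⟩ := exists_valid f hV x hx
  obtain ⟨O', hO', hv'⟩ := exists_valid f hV _ hx'
  have hcov : ⊤ ≤ (O ⊓ O') ⊔ N f hV := by
    rw [sup_inf_right]
    exact le_inf hv.h2 hv'.h2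
  have h1 : Valid (O ⊓ O') (N f hV) (fun k => rr (inf_le_left.trans hO) (t f hV (x k))) := by
    have := hv.res inf_le_left hcov
    simpa only [rr_rr] using this
  have h2 : Valid (O ⊓ O') (N f hV) (fun k => rr (inf_le_left.trans hO) (t f hV (Function.update x i y k))) := by
    have := hv'.res inf_le_right hcov
    simpa only [rr_rr] using this
  rw [U_eq f D hV x hx _ h1, U_eq f D hV _ hx' _ h2]
  exact WtStep.u_step f (H f V) hV.fromSpec (w f hV) (hh hV) D hV (finiteType_str f hV) x hx i y hx' _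
    (fun p hp => not_not.1 hp) h1 h2

/-- Local independence of the coordinates. -/
theorem U_ind (D : DeRhamSh.OmegaCx f) {e : ℕ} [SmoothOfRelativeDimension (e + 1) f] (V : X.Opens)
    (hV : IsAffineOpen V) (x y : Fin (e + 1) → Γ(X, V)) (hx : Crd f V x) (hy : Crd f V y) (p : X) (hp : p ∈ V) :
    ∃ (W : X.Opens) (hW : IsAffineOpen W) (h : W ≤ V), p ∈ W ∧
      U f D W hW (rx h x) (hx.res hV hW h) = U f D W hW (rx h y) (hy.res hV hW h) := by
  obtain ⟨W, hW, hWV, hpW, h⟩ := local_indep f (fun W hW x hx => U f D W hW x hx)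
    (fun W hW x i g hx hx' => U_step f D W hW x i g hx hx') hV x y hx hy p hp
  exact ⟨W, hW, hWV, hpW, h _ _⟩

end

section Res

variable {V W : X.Opens} (hV : IsAffineOpen V) (hW : IsAffineOpen W) (h : W ≤ V) (k : T f W ⟶ T f V)
  (hk : k ≫ j f V = j f W) (hq : k ≫ q f V = q f W ≫ Spec.map (X.presheaf.map (homOfLE h).op))

include hk hq in
theorem γ_k : γ f hW ≫ k = Spec.map (X.presheaf.map (homOfLE h).op) ≫ γ f hV := by
  refine (H f V).hom_ext ?_ ?_
  · rw [Category.assoc, hk, γ_j, Category.assoc, γ_j]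
    exact (hV.map_fromSpec hW (homOfLE h).op).symm
  · rw [Category.assoc, hq, ← Category.assoc, γ_q, Category.id_comp, Category.assoc, γ_q, Category.comp_id]

theorem specMap_str : Spec.map (X.presheaf.map (homOfLE h).op) ≫ Spec.map (CommRingCat.ofHom (str f V)) =
    Spec.map (CommRingCat.ofHom (str f W)) := by
  have h1 : CommRingCat.ofHom (str f V) ≫ X.presheaf.map (homOfLE h).op = CommRingCat.ofHom (str f W) := by
    ext a
    exact res_str f h a
  rw [← Spec.map_comp, h1]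

include hk hq in
theorem isPullback_k : IsPullback k (q f W) (q f V) (Spec.map (X.presheaf.map (homOfLE h).op)) := by
  refine IsPullback.of_right ?_ hq (H f V)
  rw [hk, specMap_str]
  exact H f W

include hk hq in
theorem isPullback_γ : IsPullback (Spec.map (X.presheaf.map (homOfLE h).op)) (γ f hW) (γ f hV) k := by
  refine IsPullback.of_bot ?_ (γ_k f hV hW h k hk hq).symm (isPullback_k f h k hk hq)
  rw [γ_q, γ_q]
  exact IsPullback.of_vert_isIso ⟨by rw [Category.id_comp, Category.comp_id]⟩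

include hk hq in
theorem N_le [IsSeparated f] : N f hW ≤ k ⁻¹ᵁ N f hV := by
  intro p hp hp'
  refine hp ?_
  obtain ⟨z, hz⟩ := hp'
  have H1 := isPullback_γ f hV hW h k hk hq
  obtain ⟨a, h1, h2⟩ := Scheme.Pullback.exists_preimage_pullback (f := γ f hV) (g := k) z p hz
  refine ⟨H1.isoPullback.inv a, ?_⟩
  have h3 : H1.isoPullback.inv ≫ γ f hW = pullback.snd _ _ := H1.isoPullback_inv_snd
  rw [← h2, ← h3]
  rfl

include hk hq in
theorem k_t (x : Γ(X, V)) : k.appLE (j f V ⁻¹ᵁ V) (j f W ⁻¹ᵁ W) (by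
      rw [← Scheme.Hom.comp_preimage, hk]
      exact (j f W).preimage_mono h) (t f hV x) = t f hW (X.presheaf.map (homOfLE h).op x) := by
  have e0 : j f W ⁻¹ᵁ W ≤ k ⁻¹ᵁ (j f V ⁻¹ᵁ V) := by
    rw [← Scheme.Hom.comp_preimage, hk]
    exact (j f W).preimage_mono h
  have h1 : (j f V).app V ≫ k.appLE (j f V ⁻¹ᵁ V) (j f W ⁻¹ᵁ W) e0 =
      X.presheaf.map (homOfLE h).op ≫ (j f W).app W := by
    rw [Scheme.Hom.app_eq_appLE, Scheme.Hom.appLE_comp_appLE, Scheme.Hom.app_eq_appLE, Scheme.Hom.map_appLE]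
    congr 1
  have h2 : hV.fromSpec.appLE V ⊤ (hh hV) ≫ (q f V).appLE ⊤ (j f V ⁻¹ᵁ V) le_top ≫
      k.appLE (j f V ⁻¹ᵁ V) (j f W ⁻¹ᵁ W) e0 = X.presheaf.map (homOfLE h).op ≫
        hW.fromSpec.appLE W ⊤ (hh hW) ≫ (q f W).appLE ⊤ (j f W ⁻¹ᵁ W) le_top := by
    rw [Scheme.Hom.appLE_comp_appLE, Scheme.Hom.appLE_comp_appLE, Scheme.Hom.appLE_comp_appLE, Scheme.Hom.map_appLE]
    congr 1
    rw [hq, Category.assoc]
    congr 1
    exact hV.map_fromSpec hW (homOfLE h).op
  unfold t df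
  rw [map_sub]
  congr 1
  · exact ConcreteCategory.congr_hom h1 x
  · exact ConcreteCategory.congr_hom h2 x

include hk hq in
theorem rr_k_t (x : Γ(X, V)) {O : (T f V).Opens} (hO : O ≤ j f V ⁻¹ᵁ V) {O₁ : (T f W).Opens}
    (h1 : O₁ ≤ j f W ⁻¹ᵁ W) (h2 : O₁ ≤ k ⁻¹ᵁ O) :
    rr h1 (t f hW (X.presheaf.map (homOfLE h).op x)) = rr h2 (k.app O (rr hO (t f hV x))) := by
  have e0 : j f W ⁻¹ᵁ W ≤ k ⁻¹ᵁ (j f V ⁻¹ᵁ V) := by
    rw [← Scheme.Hom.comp_preimage, hk]
    exact (j f W).preimage_mono h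
  have e1 : (T f V).presheaf.map (homOfLE hO).op ≫ k.app O ≫ (T f W).presheaf.map (homOfLE h2).op =
      k.appLE (j f V ⁻¹ᵁ V) (j f W ⁻¹ᵁ W) e0 ≫ (T f W).presheaf.map (homOfLE h1).op := by
    rw [Scheme.Hom.app_eq_appLE, Scheme.Hom.appLE_map, Scheme.Hom.map_appLE, Scheme.Hom.appLE_map]
  rw [← k_t f hV hW h k hk hq x]
  exact (ConcreteCategory.congr_hom e1 (t f hV x)).symm

include hq in
/-- **Restriction.** -/
theorem U_res [IsSeparated f] [LocallyOfFiniteType f] (D : DeRhamSh.OmegaCx f) {e : ℕ}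
    (x : Fin (e + 1) → Γ(X, V)) (hx : Crd f V x) (hx' : Crd f W (rx h x)) :
    K56.PMap.pm k.base (K184.BcPm.psi k hk (D.term (e + 1))) (e + 1) (U f D V hV x hx) =
      U f D W hW (rx h x) hx' := by
  obtain ⟨O, hO, hv⟩ := exists_valid f hV x hx
  obtain ⟨O', hO', hv'⟩ := exists_valid f hW (rx h x) hx'
  let O₁ : (T f W).Opens := O' ⊓ k ⁻¹ᵁ O
  have hcov : ⊤ ≤ O₁ ⊔ N f hW := by
    intro p _
    by_cases hp : p ∈ N f hW
    · exact Or.inr hp
    · obtain ⟨z, rfl⟩ := not_not.1 hp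
      refine Or.inl ⟨(hv'.h2 (show γ f hW z ∈ (⊤ : (T f W).Opens) from trivial)).resolve_right hp, ?_⟩
      have h1 : k (γ f hW z) = γ f hV (Spec.map (X.presheaf.map (homOfLE h).op) z) :=
        congrArg (fun g : Spec Γ(X, W) ⟶ T f V => g z) (γ_k f hV hW h k hk hq)
      have h2 : k (γ f hW z) ∉ N f hV := fun h3 => h3 ⟨_, h1.symm⟩
      exact (hv.h2 (show k (γ f hW z) ∈ (⊤ : (T f V).Opens) from trivial)).resolve_right h2
  have h1 : Valid O₁ (N f hW) (fun i => rr (inf_le_left.trans hO') (t f hW (rx h x i))) := by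
    have := hv'.res (show O₁ ≤ O' from inf_le_left) hcov
    simpa only [rr_rr] using this
  have e1 : O₁ ≤ j f W ⁻¹ᵁ V := inf_le_left.trans (hO'.trans ((j f W).preimage_mono h))
  rw [U_eq f D hV x hx hO hv, U_eq f D hW _ hx' _ h1]
  refine (K184.BcPsi.pm_psi_fv k hk (D.term (e + 1)) hv h1 inf_le_right (N_le f hV hW h k hk hq)
    (fun i => rr_k_t f hV hW h k hk hq (x i) hO _ _) hO e1 _).trans ?_
  congr 1
  have h2 := K854.FracForm.wt_res f D (V := ⟨W, hW⟩) (W := ⟨V, hV⟩) h x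
  have h3 := sec_res (j f W) (D.term (e + 1)) e1 (inf_le_left.trans hO') h le_rfl (K854.FracForm.wt f D ⟨V, hV⟩ x)
  have h4 := mr_refl ((Scheme.Modules.pullback (j f W)).obj (D.term (e + 1)))
    (sec (j f W) (D.term (e + 1)) e1 (K854.FracForm.wt f D ⟨V, hV⟩ x))
  exact (h4.symm.trans h3).trans (congrArg _ h2)

end Res

/-- `x ⊗ 1 - 1 ⊗ x`, in terms of the structure maps. -/
theorem rr_t {V : X.Opens} (hV : IsAffineOpen V) (x : Γ(X, V)) {O : (T f V).Opens} (hO : O ≤ j f V ⁻¹ᵁ V) :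
    rr hO (t f hV x) = (j f V).appLE V O hO x - str (q f V) O x := by
  have h1 : hV.fromSpec.appLE V ⊤ (hh hV) = (Scheme.ΓSpecIso Γ(X, V)).inv := by
    rw [Scheme.Hom.appLE, hV.fromSpec_app_self, Category.assoc, ← Functor.map_comp]
    have h2 : (eqToHom hV.fromSpec_preimage_self).op ≫ (homOfLE (hh hV)).op = 𝟙 _ := rfl
    rw [h2, CategoryTheory.Functor.map_id, Category.comp_id]
  have h3 : (q f V).appLE ⊤ (j f V ⁻¹ᵁ V) le_top ≫ (T f V).presheaf.map (homOfLE hO).op =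
      (q f V).appLE ⊤ O le_top := Scheme.Hom.appLE_map _ _ _
  unfold t df
  rw [map_sub]
  congr 1
  rw [h1]
  exact ConcreteCategory.congr_hom h3 _

/-- **Constancy of the class of the diagonal.** -/
theorem diag (e : ℕ) : K853.VanAsm.DIAG.{u} e := by
  intro A _ _ _ _ X f _ _ _ s hs D V hV x hx
  have hsm : Smooth f := SmoothOfRelativeDimension.smooth (e + 1) f
  obtain ⟨ν, hν⟩ := K184.GlueD.main f (e + 1) (T f) (j f) (q f) (fun V _ => H f V) D (e + 1) s hs
    (fun V x => Crd f V x) (fun V hV W hW h x hx => hx.res hV hW h) (fun V _ x hx => crd_of_isCoord hx)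
    (fun V hV x hx => U f D V hV x hx)
    (fun V hV W hW h k hk hq x hx => U_res f hV hW h k hk hq D x hx _)
    (fun V hV x y hx hy p hp => U_ind f D V hV x y hx hy p hp)
  obtain ⟨O, hO, hv⟩ := exists_valid f hV x (crd_of_isCoord hx)
  refine ⟨T f V, j f V, q f V, H f V, γ f hV, γ_j f hV, γ_q f hV, O, N f hV, hO,
    fun i => rr hO (t f hV (x i)), fun i => rr_t f hV (x i) hO, hv, fun p => not_not, ν, ?_⟩
  exact (U_eq f D hV x (crd_of_isCoord hx) hO hv).symm.trans (hν V hV x (crd_of_isCoord hx))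

end K494.UCls
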