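import Groth.Agent.DeRhamSh.K494.GeoStep
import Groth.Agent.DeRhamSh.K854.FracForm
import Groth.Agent.VarietyB.PullSec

/-!
# Change of one coordinate: the volume form
-/

set_option autoImplicit false

universe u

open CategoryTheory CategoryTheory.Limits AlgebraicGeometry TopologicalSpace Opposite

namespace K494.WtStep

open K184.Graph K494.LocIndep K644.Fr K644.Kap K494.GeoStep

variable {A : Type u} [CommRing A] {X : Scheme.{u}} (f : X ⟶ Spec (CommRingCat.of A)) {V : X.Opens}

/-- The universal derivation is induced by a linear map. -/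
def HasLin [QuasiSeparated f] (V : X.Opens) (inst : Algebra A Γ(X, V)) : Prop :=
  ∃ L : Ω[Γ(X, V)⁄A] →ₗ[Γ(X, V)] Γ(Omega.sheaf f, V), ∀ x, L (KaehlerDifferential.D A Γ(X, V) x) =
    (OmegaSh.dOmega f).app V x

open Groth.Agent.CurvesB.OmegaStalkDict in
theorem hasLin_sec [QuasiSeparated f] (V : X.Opens) : HasLin f V (secAlg f V) := by
  have : QuasiCompact (pullback.diagonal f) := inferInstance
  let _ := secAlg f V
  let _ := secMod f (Omega.sheaf f) V
  have := secTower f (Omega.sheaf f) V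
  refine ⟨(secDer f V).liftKaehlerDifferential, fun x => ?_⟩
  refine ((secDer f V).liftKaehlerDifferential_comp_D x).trans ?_
  exact (K853.OmegaBridge.dOmega_app_eq f V x).symm

theorem hasLin_alg [QuasiSeparated f] (V : X.Opens) : HasLin f V (K184.Const.alg f V) := by
  have h1 : K184.Const.alg f V = Groth.Agent.CurvesB.OmegaStalkDict.secAlg f V :=
    congrArg RingHom.toAlgebra (K853.EtCoord.secHom_eq V).symm
  rw [h1]
  exact hasLin_sec f V

/-- The coefficient of `D y` at `D (x i)`. -/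
theorem exists_coef [QuasiSeparated f] {n : ℕ} (x : Fin n → Γ(X, V)) (hx : Crd f V x) (i : Fin n) (y : Γ(X, V)) :
    ∃ c : Γ(X, V), (letI := K184.Const.alg f V
      KaehlerDifferential.D A Γ(X, V) y - c • KaehlerDifferential.D A Γ(X, V) (x i) ∈
      Submodule.span Γ(X, V) ((fun k => KaehlerDifferential.D A Γ(X, V) (x k)) '' {k | k ≠ i})) ∧
      (OmegaSh.dOmega f).app V y - c • (OmegaSh.dOmega f).app V (x i) ∈
        Submodule.span Γ(X, V) ((fun k => (OmegaSh.dOmega f).app V (x k)) '' {k | k ≠ i}) := by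
  obtain ⟨L, hL⟩ := hasLin_alg f V
  let _ := K184.Const.alg f V
  obtain ⟨a, ha⟩ := (Submodule.mem_span_range_iff_exists_fun Γ(X, V)).1
    (hx (Submodule.mem_top (x := KaehlerDifferential.D A Γ(X, V) y)))
  have h1 : KaehlerDifferential.D A Γ(X, V) y - a i • KaehlerDifferential.D A Γ(X, V) (x i) =
      ∑ k ∈ Finset.univ.erase i, a k • KaehlerDifferential.D A Γ(X, V) (x k) := by
    rw [← ha, ← Finset.add_sum_erase _ _ (Finset.mem_univ i), add_sub_cancel_left]
  refine ⟨a i, ?_, ?_⟩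
  · rw [h1]
    exact Submodule.sum_mem _ fun k hk => Submodule.smul_mem _ _
      (Submodule.subset_span ⟨k, Finset.ne_of_mem_erase hk, rfl⟩)
  · have h2 := congrArg L h1
    rw [map_sub, map_smul, hL, hL, map_sum] at h2
    rw [h2]
    refine Submodule.sum_mem _ fun k hk => ?_
    rw [map_smul, hL]
    exact Submodule.smul_mem _ _ (Submodule.subset_span ⟨k, Finset.ne_of_mem_erase hk, rfl⟩)

variable {Y T : Scheme.{u}} {g : Y ⟶ Spec (CommRingCat.of A)} {j : T ⟶ X} {q : T ⟶ Y} (H : IsPullback j q f g)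
  (h : Y ⟶ X) (w : h ≫ f = g) (hh : ⊤ ≤ h ⁻¹ᵁ V)

open Groth.Agent.VarietyB.PullSec in
/-- **Change of one coordinate** in `[j^* wt x / ∏ (j^♯ x_i - q^♯ h^♯ x_i)]`. -/
theorem u_step [QuasiSeparated f] (D : DeRhamSh.OmegaCx f) {e : ℕ} (hV : IsAffineOpen V)
    (hft : (K184.Const.str f V).FiniteType) (x : Fin (e + 1) → Γ(X, V)) (hx : Crd f V x)
    (i : Fin (e + 1)) (y : Γ(X, V)) (hy : Crd f V (Function.update x i y)) {O N : T.Opens} (hO : O ≤ j ⁻¹ᵁ V)
    (hN : ∀ p, p ∉ N → p ∈ Set.range (gr H h w))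
    (hv : Valid O N (fun k => rr hO (df j q h hh (x k))))
    (hv' : Valid O N (fun k => rr hO (df j q h hh (Function.update x i y k)))) :
    fv hv ((Scheme.Modules.pullback j).obj (D.term (e + 1)))
        (sec j (D.term (e + 1)) hO (K854.FracForm.wt f D ⟨V, hV⟩ x)) =
      fv hv' ((Scheme.Modules.pullback j).obj (D.term (e + 1)))
        (sec j (D.term (e + 1)) hO (K854.FracForm.wt f D ⟨V, hV⟩ (Function.update x i y))) := by
  obtain ⟨c, hc1, hc2⟩ := exists_coef f x hx i y
  rw [K854.FracForm.wt_update f D ⟨V, hV⟩ x i y c hc2, sec_smul]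
  exact fv_step H h w hh hft x hx i y hy hO hN hv hv' c hc1 _ _

open Groth.Agent.VarietyB.PullSec in
/-- Independence of the neighbourhood. -/
theorem fv_open {n : ℕ} (F : X.Modules) (s : Γ(F, V)) {O O' N : T.Opens} (hO : O ≤ j ⁻¹ᵁ V) (hO' : O' ≤ j ⁻¹ᵁ V)
    (t : Fin n → Γ(T, j ⁻¹ᵁ V)) (hv : Valid O N (fun k => rr hO (t k))) (hv' : Valid O' N (fun k => rr hO' (t k))) :
    fv hv ((Scheme.Modules.pullback j).obj F) (sec j F hO s) =
      fv hv' ((Scheme.Modules.pullback j).obj F) (sec j F hO' s) := by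
  have hcov : ⊤ ≤ (O ⊓ O') ⊔ N := by
    rw [sup_inf_right]
    exact le_inf hv.h2 hv'.h2
  have h1 : Valid (O ⊓ O') N (fun k => rr (inf_le_left.trans hO) (t k)) := by
    have := hv.res inf_le_left hcov
    simpa only [rr_rr] using this
  rw [fv_res hv inf_le_left h1 (fun k => (rr_rr _ _ _).symm), fv_res hv' inf_le_right h1 (fun k => (rr_rr _ _ _).symm)]
  congr 1
  exact (sec_res j F hO (inf_le_left.trans hO) le_rfl inf_le_left s).trans
    (sec_res j F hO' (inf_le_left.trans hO) le_rfl inf_le_right s).symm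

end K494.WtStep
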